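import Cfsg.Agent.Lib.TPS.Bas
import Cfsg.Agent.Lib.Kim.UH2

/-! Package KIM: the counting of Kimura.  See `plans/TPS.md`. -/

set_option autoImplicit false
set_option linter.unusedSectionVars false

namespace CfsgLib.TPS

open Subgroup MulAction CfsgLib.Perm CfsgLib.Kim CfsgLib.DihSyl

variable {G : Type*} [Group G] [Finite G] {Ω : Type*} [Finite Ω] [MulAction G Ω]
  [FaithfulSMul G Ω] {a b c d : Ω} {S : Subgroup G} {s x : G}

theorem cls_conj (t : G) {C : Subgroup G} : ∀ g ∈ C, ∀ s ∈ cls t, g * s * g⁻¹ ∈ cls t :=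
  fun g _ _ hs => IsConj.trans hs (isConj_iff.2 ⟨g, rfl⟩)

namespace Cx

variable (h : Cx a b S)
include h

theorem faith {g : G} (hg : ∀ c : Ω, g • c = c) : g = 1 :=
  FaithfulSMul.eq_of_smul_eq_smul (α := Ω) fun c => by rw [hg, one_smul]

theorem two (hcd : c ≠ d) : ∃ g : G, g • a = c ∧ g • b = d :=
  (tt_top h.h2).two trivial trivial trivial trivial h.ne hcd |>.imp fun _ k => k.2

theorem conj_of_fix (hs : s ∈ stab2 G a b) (h2 : orderOf s = 2) (hx : orderOf x = 2) (hcd : c ≠ d)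
    (hc : x • c = c) (hd : x • d = d) : ∃ g : G, g • a = c ∧ g • b = d ∧ g * s * g⁻¹ = x := by
  obtain ⟨g, ha, hb⟩ := h.two hcd
  obtain ⟨k, hk, e⟩ := h.sab.one s hs (g⁻¹ * x * g) ⟨by
      show _ • a = a
      rw [mul_smul, mul_smul, ha, hc, ← ha, inv_smul_smul], by
      show _ • b = b
      rw [mul_smul, mul_smul, hb, hd, ← hb, inv_smul_smul]⟩ h2
    (by rw [← hx]; simpa using (MulAut.conj g⁻¹).orderOf_eq x)
  exact ⟨g * k, by rw [mul_smul, hk.1, ha], by rw [mul_smul, hk.2, hb], by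
    rw [show g * k * s * (g * k)⁻¹ = g * (k * s * k⁻¹) * g⁻¹ by group, e]; group⟩

theorem tC (hs : s ∈ stab2 G a b) (h2 : orderOf s = 2) :
    TT (centralizer ({s} : Set G)) (fixedBy Ω s) := by
  refine ⟨fun g hg x hx => smul_fix_of_comm (commC hg) hx, fun ha hb hc hd hab hcd => ?_⟩
  obtain ⟨g, h3, h4, h1⟩ := h.conj_of_fix hs h2 h2 hab ha hb
  obtain ⟨g', h5, h6, h7⟩ := h.conj_of_fix hs h2 h2 hcd hc hd
  exact ⟨g' * g⁻¹, mul_mem (memC (mul_inv_eq_iff_eq_mul.1 h7)) (inv_mem (memC (mul_inv_eq_iff_eq_mul.1 h1))),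
    by rw [mul_smul, ← h3, inv_smul_smul, h5], by rw [mul_smul, ← h4, inv_smul_smul, h6]⟩

theorem tN : TT (normalizer (S : Set G)) (Fx Ω S) := by
  have := witt (tt_top h.h2) trivial trivial h.ne (P := S) (le_inf le_top h.sab.le) h.sab.two
    (by rw [top_inf_eq]; exact h.sab.odd)
  rwa [top_inf_eq, Set.univ_inter] at this

theorem tNC (hs : s ∈ S) (h2 : orderOf s = 2) :
    TT (centralizer ({s} : Set G) ⊓ normalizer (S : Set G)) (Fx Ω S) := by
  have le : S ≤ centralizer ({s} : Set G) ⊓ stab2 G a b :=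
    le_inf (fun x hx => memC (h.sab.comm hx hs)) h.sab.le
  have := witt (h.tC (h.sab.le hs) h2) (h.sab.le hs).1 (h.sab.le hs).2 h.ne le h.sab.two
    (h.sab.odd.of_dvd_nat (Dvd.intro _ (relIndex_mul_relIndex S _ _ le inf_le_right)))
  rwa [Set.inter_eq_right.2 (show Fx Ω S ⊆ fixedBy Ω s from fun x hx => hx s hs)] at this

theorem le_normal {M : Subgroup G} (hM : M.Normal) (h1 : M ≠ ⊥) : stab2 G a b ≤ M := by
  obtain ⟨k, hk, k1, ka, kb⟩ := exists_stab2 h.h2 h.hn hM h1 h.ne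
  exact h.sab.le_of_normal (fun d _ x hx => hM.conj_mem x hx d) hk ⟨ka, kb⟩ k1

theorem two_le (hs : s ∈ stab2 G a b) : 2 ≤ (fixedBy Ω s).ncard := by
  exact (Set.one_lt_ncard (Set.toFinite _)).2 ⟨a, hs.1, b, hs.2, h.ne⟩

theorem lt_card (h1 : s ≠ 1) : (fixedBy Ω s).ncard < Nat.card Ω := by
  obtain ⟨c, hc⟩ := exists_moved (Ω := Ω) h1
  rw [← Set.ncard_univ]
  exact Set.ncard_lt_ncard ⟨Set.subset_univ _, fun e => hc (e trivial)⟩

theorem f2_eq (hs : s ∈ stab2 G a b) (h2 : orderOf s = 2) :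
    f2 (cls s) a b = {x | x ∈ stab2 G a b ∧ orderOf x = 2} := by
  ext x
  refine ⟨fun hx => ⟨hx.2, ?_⟩, fun hx => ⟨?_, hx.1⟩⟩
  · obtain ⟨g, rfl⟩ := isConj_iff.1 hx.1
    exact ((MulAut.conj g).orderOf_eq s).trans h2
  · obtain ⟨g, -, e⟩ := h.sab.one s hs x hx.1 h2 hx.2
    exact isConj_iff.2 ⟨g, e⟩

/-- `d₁ (n - i) = β i (i - 1)`, `I_H = d₁ + β i` -/
theorem cnt (hs : s ∈ stab2 G a b) (h2 : orderOf s = 2) :
    ((f2 (cls s) a b).ncard : ℤ) * (Nat.card Ω - (fixedBy Ω s).ncard) =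
      (sw (cls s) a b).ncard * ((fixedBy Ω s).ncard * ((fixedBy Ω s).ncard - 1)) ∧
    (f1 (cls s) a).ncard = (f2 (cls s) a b).ncard + (sw (cls s) a b).ncard * (fixedBy Ω s).ncard ∧
    0 < (f2 (cls s) a b).ncard ∧ 0 < (sw (cls s) a b).ncard := by
  obtain ⟨ss, s1⟩ := orderOf_eq_two_iff'.1 h2
  have hf : ∀ x ∈ cls s, (fixedBy Ω x ∩ Set.univ).ncard = (fixedBy Ω s).ncard := fun x hx => by
    rw [Set.inter_univ, ncard_fixedBy_of_isConj hx]
  have h1 := (tt_top h.h2).cnt_sw (cls_conj s) (fun _ _ => trivial) (fun x hx y _ => by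
    rw [← mul_smul, mul_self_of_isConj ss hx, one_smul]) hf trivial trivial h.ne
  have h5 := (tt_top h.h2).cnt_two (cls_conj s) hf trivial trivial h.ne
  have h3 := (tt_top h.h2).cnt_one (cls_conj s) hf (a := a) trivial
  rw [Set.ncard_univ] at h1 h3 h5
  have h4 := h.lt_card s1
  have h6 := h.two_le hs
  zify at h3
  have h7 : ((cls s).ncard : ℤ) ≠ 0 := by
    exact_mod_cast ((Set.ncard_pos (Set.toFinite _)).2 ⟨s, IsConj.refl s⟩).ne'
  have h8 : ((f2 (cls s) a b).ncard : ℤ) * (Nat.card Ω - (fixedBy Ω s).ncard) =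
      (sw (cls s) a b).ncard * ((fixedBy Ω s).ncard * ((fixedBy Ω s).ncard - 1)) :=
    mul_left_cancel₀ h7 (by
      linear_combination (f2 (cls s) a b).ncard * h1 - (sw (cls s) a b).ncard * h5)
  have h9 : ((f1 (cls s) a).ncard : ℤ) * ((fixedBy Ω s).ncard - 1) =
      (f2 (cls s) a b).ncard * (Nat.card Ω - 1) :=
    mul_left_cancel₀ (show (Nat.card Ω : ℤ) ≠ 0 by omega)
      (by linear_combination h5 - ((fixedBy Ω s).ncard - 1) * h3)
  refine ⟨h8, ?_, (Set.ncard_pos (Set.toFinite _)).2 ⟨s, IsConj.refl s, hs⟩, ?_⟩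
  · zify
    exact mul_right_cancel₀ (show ((fixedBy Ω s).ncard : ℤ) - 1 ≠ 0 by omega)
      (by linear_combination h9 + h8)
  · obtain ⟨c, hc⟩ := exists_moved (Ω := Ω) s1
    obtain ⟨g, hg⟩ := exists_conj_sw h.h2 h.ne ss hc
    exact (Set.ncard_pos (Set.toFinite _)).2 ⟨_, isConj_conj s g, hg⟩

/-- an involution is conjugate to one interchanging `a` and `b` -/
theorem conj_sw (hx : x * x = 1) (h1 : x ≠ 1) :
    ∃ g : G, (g * x * g⁻¹) • a = b ∧ (g * x * g⁻¹) • b = a := by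
  obtain ⟨c, hc⟩ := exists_moved (Ω := Ω) h1
  exact exists_conj_sw h.h2 h.ne hx hc

end Cx

end CfsgLib.TPS
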