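import Cfsg.Agent.Lib.TPS.TyOf
import Cfsg.Agent.Lib.Core.Cores
import Cfsg.Agent.Lib.Tech.Invol
import Cfsg.Agent.Lib.FT.OddOrder

/-! S3400, package SOC: a simple subgroup of odd index modulo the odd core.  See `plans/TPSY.md`. -/

set_option autoImplicit false
set_option linter.unusedSectionVars false

namespace CfsgLib.TPS

open Subgroup MulAction CfsgLib.Perm CfsgLib.Kim CfsgLib.DihSyl

variable {A : Type*} [Group A] [Finite A]

theorem soc_le {K X : Subgroup A} (hs : IsSimpleGroup K) (n : ∀ k ∈ K, ∀ x ∈ X, k * x * k⁻¹ ∈ X) :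
    K ⊓ X = ⊥ ∨ K ≤ X := by
  rcases hs.eq_bot_or_eq_top_of_normal (X.subgroupOf K) ⟨fun x hx k => n k k.2 x hx⟩ with e | e
  · exact .inl (by rwa [subgroupOf_eq_bot, disjoint_iff, inf_comm] at e)
  · exact .inr (subgroupOf_eq_top.1 e)

/-- a subgroup that meets the kernel trivially is isomorphic to its image -/
noncomputable def socEquiv {B : Type*} [Group B] (f : A →* B) {K : Subgroup A} (h : K ⊓ f.ker = ⊥) :
    K ≃* K.map f :=
  MulEquiv.ofBijective (f.subgroupMap K) ⟨(injective_iff_map_eq_one _).2 fun x hx =>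
    Subtype.ext (mem_bot.1 (h.le ⟨x.2, congrArg Subtype.val hx⟩)), f.subgroupMap_surjective K⟩

theorem soc_core (hO : Cfsg.pPrimeCore 2 A = ⊥) {K : Subgroup A} (hs : IsSimpleGroup K) (hi : Odd K.index) :
    IsSimpleGroup (normalClosure (K : Set A)) := by
  have := Fact.mk Nat.prime_two
  have KM : K ≤ normalClosure (K : Set A) := le_normalClosure
  have nM : (normalClosure (K : Set A)).Normal := inferInstance
  obtain ⟨T, hT⟩ := Tech.exists_isSylowIn 2 K
  have hT' := hT.trans KM fun d => hi.not_two_dvd_nat (d.trans (relIndex_dvd_index_of_le KM))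
  have key : ∀ X : Subgroup A, X ≤ normalClosure (K : Set A) → X ≠ ⊥ →
      (∀ m ∈ normalClosure (K : Set A), ∀ x ∈ X, m * x * m⁻¹ ∈ X) → K ≤ X := fun X le X1 n => by
    have ev : Even (Nat.card X) := by
      by_contra o
      exact X1 (le_bot_iff.1 (hO ▸ Core.le_pPrimeCore_of_isSubnormal
        (.step _ _ le nM.isSubnormal ⟨fun x hx k => n k k.2 x hx⟩)
        (Nat.coprime_two_right.2 (Nat.not_even_iff_odd.1 o))))
    obtain ⟨x, hx, o⟩ := Tech.exists_involution_of_even ev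
    obtain ⟨g, hg, m⟩ := hT'.exists_conj_mem (le hx) (Tech.isPGroup_two_zpowers (Tech.mul_self_of_orderOf_two o))
    refine (soc_le hs fun k hk => n k (KM hk)).resolve_left fun e => ?_
    exact Tech.ne_one_of_orderOf_two ((Tech.orderOf_conj_eq g x).trans o) (mem_bot.1 (e.le ⟨hT.le m, n g hg x hx⟩))
  have : Nontrivial (normalClosure (K : Set A)) := (inclusion_injective KM).nontrivial
  refine ⟨fun N hN => or_iff_not_imp_left.2 fun N1 => eq_top_iff.2 fun x _ => ?_⟩
  have X1 : N.map (normalClosure (K : Set A)).subtype ≠ ⊥ := fun e =>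
    N1 ((map_eq_bot_iff_of_injective _ (subtype_injective _)).1 e)
  have n : ∀ m ∈ normalClosure (K : Set A), ∀ x ∈ N.map (normalClosure (K : Set A)).subtype,
      m * x * m⁻¹ ∈ N.map (normalClosure (K : Set A)).subtype := by
    rintro m hm _ ⟨x, hx, rfl⟩
    exact ⟨_, hN.conj_mem x hx ⟨m, hm⟩, rfl⟩
  have le : normalClosure (K : Set A) ≤ N.map (normalClosure (K : Set A)).subtype := by
    refine (closure_le _).2 fun y hy => ?_
    obtain ⟨k, hk, c⟩ := Group.mem_conjugatesOfSet_iff.1 hy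
    obtain ⟨g, rfl⟩ := isConj_iff.1 c
    have := key (Tech.cj g⁻¹ (N.map (normalClosure (K : Set A)).subtype))
      (Tech.cj_le_iff.2 fun x hx => nM.conj_mem _ (map_subtype_le _ hx) _) (by rwa [Ne, Tech.cj_eq_bot_iff])
      (fun m hm x hx => by
        rw [Tech.mem_cj] at hx ⊢
        have := n _ (nM.conj_mem m hm g) _ hx
        simpa [mul_assoc] using this) hk
    rwa [Tech.mem_cj, inv_inv] at this
  obtain ⟨y, hy, e⟩ := le x.2
  exact (Subtype.ext e : y = x) ▸ hy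

/-- the normal closure of a simple subgroup of odd index is simple modulo `O(A)` -/
theorem soc {K : Subgroup A} (hs : IsSimpleGroup K) (hn : ¬ IsMulCommutative K)
    (hi : Odd K.index) : K ⊓ Cfsg.pPrimeCore 2 A = ⊥ ∧
      ∃ M : Subgroup (A ⧸ Cfsg.pPrimeCore 2 A), M.Normal ∧ IsSimpleGroup M ∧ ¬ IsMulCommutative M ∧
        K.map (QuotientGroup.mk' (Cfsg.pPrimeCore 2 A)) ≤ M := by
  have e : K ⊓ Cfsg.pPrimeCore 2 A = ⊥ := by
    refine (soc_le hs fun k _ x hx => (Cfsg.pPrimeCore_normal 2 A).conj_mem x hx k).resolve_right fun le => ?_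
    exact (Nat.coprime_two_right.1 (Core.coprime_card_pPrimeCore 2 A)).not_two_dvd_nat
      ((FT.even_card_of_simple hn).two_dvd.trans (card_dvd_of_le le))
  have f := socEquiv (QuotientGroup.mk' (Cfsg.pPrimeCore 2 A)) (K := K) (by rwa [QuotientGroup.ker_mk'])
  refine ⟨e, _, inferInstance, soc_core (Core.pPrimeCore_quotient_pPrimeCore 2 A) f.symm.isSimpleGroup
    (hi.of_dvd_nat (index_map_dvd _ (QuotientGroup.mk'_surjective _))), fun c => hn ⟨⟨fun x y => ?_⟩⟩,
    le_normalClosure⟩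
  exact f.injective (inclusion_injective le_normalClosure (by
    simpa only [map_mul] using c.is_comm.comm _ _))

/-- for `K ≅ L₂(2 ^ k)`, `k ≥ 4`, of odd index in `A`, all involutions of `A` lie in `K O(A)` -/
theorem socE {G : Type*} [Group G] [Finite G] {A K S : Subgroup G} (h : Sab K S) {k : ℕ}
    (hE : TyE K S k) (h4 : 4 ≤ k) (hKA : K ≤ A) (hi : Odd (K.relIndex A)) :
    ∃ O : Subgroup G, Odd (Nat.card O) ∧ O ≤ A ∧ (∀ g ∈ A, ∀ o ∈ O, g * o * g⁻¹ ∈ O) ∧ O ⊓ K = ⊥ ∧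
      ∀ u ∈ A, u * u = 1 → ∃ y ∈ K, ∃ o ∈ O, u = y * o := by
  have := Fact.mk Nat.prime_two
  have := h.simple
  have e := subgroupOfEquivOfLe hKA
  obtain ⟨h1, M, nM, sM, cM, le⟩ := soc (K := K.subgroupOf A) e.isSimpleGroup
    (fun c => h.ncomm ⟨⟨fun x y => e.symm.injective (by simpa only [map_mul] using c.is_comm.comm _ _)⟩⟩) hi
  set π := QuotientGroup.mk' (Cfsg.pPrimeCore 2 A) with hπ
  have h1' : K.subgroupOf A ⊓ π.ker = ⊥ := by rwa [QuotientGroup.ker_mk']
  have SK : S.subgroupOf A ≤ K.subgroupOf A := subgroupOf_mono _ h.le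
  have cS : Nat.card ((S.subgroupOf A).map π) = 2 ^ k := by
    rw [← Nat.card_congr (socEquiv π (le_bot_iff.1 (h1' ▸ inf_le_inf_right _ SK))).toEquiv,
      Nat.card_congr (subgroupOfEquivOfLe (h.le.trans hKA)).toEquiv, hE.cardS]
  have o : Odd ((S.subgroupOf A).map π).index := by
    refine Odd.of_dvd_nat ?_ (index_map_dvd _ (QuotientGroup.mk'_surjective _))
    change Odd (S.relIndex A)
    rw [← relIndex_mul_relIndex S K A h.le hKA]
    exact h.odd.mul hi
  have SM := (map_mono SK).trans le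
  have p2 : IsPGroup 2 ((S.subgroupOf A).map π) := .of_card cS
  have h16 : 2 ^ 4 ≤ 2 ^ k := Nat.pow_le_pow_right (by norm_num) h4
  have eM : (K.subgroupOf A).map π = M := by
    rcases (ty_of sM cM SM p2 (o.of_dvd_nat (relIndex_dvd_index_of_le SM)) (by
      rintro _ ⟨x, hx, rfl⟩ _ ⟨y, hy, rfl⟩
      rw [← map_mul, ← map_mul]
      exact congrArg π (Subtype.ext (Reg.comm_of_sq h.elem hx hy)))).2 with ⟨j, t⟩ | ⟨r, q, t, -⟩ | ⟨r, q, t⟩
    · refine eq_of_le_of_card_ge le ?_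
      rw [t.card, ← t.cardS, cS, ← Nat.card_congr (socEquiv π h1').toEquiv, Nat.card_congr e.toEquiv, hE.card]
    · omega
    · have := t.cardS
      omega
  have sy : Tech.IsSylowIn 2 ((S.subgroupOf A).map π) ⊤ :=
    ⟨le_top, p2, by rw [relIndex_top_right]; exact o.not_two_dvd_nat⟩
  refine ⟨(Cfsg.pPrimeCore 2 A).map A.subtype, ?_, map_subtype_le _, ?_, ?_, fun u hu u2 => ?_⟩
  · rw [card_map_of_injective A.subtype_injective]
    exact Nat.coprime_two_right.1 (Core.coprime_card_pPrimeCore 2 A)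
  · rintro g hg _ ⟨o, ho, rfl⟩
    exact ⟨_, (Cfsg.pPrimeCore_normal 2 A).conj_mem o ho ⟨g, hg⟩, rfl⟩
  · rw [eq_bot_iff]
    rintro _ ⟨⟨o, ho, rfl⟩, hk⟩
    exact congrArg Subtype.val (mem_bot.1 (h1.le ⟨hk, ho⟩))
  · obtain ⟨g, -, m⟩ := sy.exists_conj_mem (mem_top (π ⟨u, hu⟩)) (Tech.isPGroup_two_zpowers (by
      rw [← map_mul, show (⟨u, hu⟩ * ⟨u, hu⟩ : A) = 1 from Subtype.ext u2, map_one]))
    have m' : π ⟨u, hu⟩ ∈ M := by simpa [mul_assoc] using nM.conj_mem _ (SM m) g⁻¹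
    obtain ⟨y, hy, e⟩ := eM.ge m'
    exact ⟨y, hy, _, ⟨_, QuotientGroup.eq.1 e, rfl⟩, by simp⟩

end CfsgLib.TPS
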