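import Cfsg.Agent.Lib.TPS.Defs
import Cfsg.Agent.Lib.ReeRec.Walter
import Cfsg.Agent.Lib.Ward.Loc

/-! Package TYOF: the local data of the simple groups with abelian Sylow 2-subgroups. -/

set_option autoImplicit false
set_option linter.unusedSectionVars false

namespace CfsgLib.TPS

open Subgroup MulAction CfsgLib.Perm CfsgLib.Kim CfsgLib.DihSyl Matrix MatrixGroups

variable {G : Type*} [Group G] [Finite G]

namespace TyOf

open CfsgLib.Abel2 CfsgLib.Tech

section map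

variable {X : Type*} [Group X] {f : X →* G} (hf : Function.Injective f)
include hf

theorem cen1 (s : X) : f.range ⊓ centralizer ({f s} : Set G) = (centralizer ({s} : Set X)).map f := by
  ext g
  constructor
  · rintro ⟨⟨x, rfl⟩, h⟩
    exact ⟨x, mem_centralizer_singleton_iff.2 (hf (by
      rw [map_mul, map_mul]; exact mem_centralizer_singleton_iff.1 h)), rfl⟩
  · rintro ⟨x, h, rfl⟩
    exact ⟨⟨x, rfl⟩, mem_centralizer_singleton_iff.2 (by
      rw [← map_mul, ← map_mul, mem_centralizer_singleton_iff.1 h])⟩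

theorem cenS (V : Subgroup X) : f.range ⊓ centralizer (V.map f : Set G) = (centralizer (V : Set X)).map f := by
  ext g
  constructor
  · rintro ⟨⟨x, rfl⟩, h⟩
    exact ⟨x, fun v hv => hf (by rw [map_mul, map_mul]; exact h _ (mem_map_of_mem f hv)), rfl⟩
  · rintro ⟨x, h, rfl⟩
    refine ⟨⟨x, rfl⟩, ?_⟩
    rintro _ ⟨v, hv, rfl⟩
    rw [← map_mul, ← map_mul, h v hv]

theorem nrm (V : Subgroup X) : f.range ⊓ normalizer (V.map f : Set G) = (normalizer (V : Set X)).map f := by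
  ext g
  constructor
  · rintro ⟨⟨x, rfl⟩, h⟩
    refine ⟨x, mem_normalizer_iff.2 fun v => ?_, rfl⟩
    rw [← mem_map_iff_mem hf, mem_normalizer_iff.1 h, ← map_inv, ← map_mul, ← map_mul, mem_map_iff_mem hf]
  · rintro ⟨x, h, rfl⟩
    exact ⟨⟨x, rfl⟩, le_normalizer_map f (mem_map_of_mem f h)⟩

theorem dih {D : Subgroup X} {n : ℕ} {r s : X} (h : IsDih D n r s) : IsDih (D.map f) n (f r) (f s) := by
  refine ⟨(orderOf_injective f hf r).trans h.ord, by rw [← map_mul, h.ss, map_one],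
    by rw [← map_inv, ← map_mul, ← map_mul, h.conj, map_inv], fun k => h.notMem ?_, fun g => ⟨?_, ?_⟩⟩
  · rwa [← MonoidHom.map_zpowers, mem_map_iff_mem hf] at k
  · rintro ⟨x, hx, rfl⟩
    obtain ⟨i, rfl | rfl⟩ := (h.mem x).1 hx
    · exact ⟨i, .inl (map_zpow _ _ _)⟩
    · exact ⟨i, .inr (by rw [map_mul, map_zpow])⟩
  · rintro ⟨i, rfl | rfl⟩
    · exact ⟨_, h.rpow_mem i, map_zpow _ _ _⟩
    · exact ⟨_, h.rpows_mem i, by rw [map_mul, map_zpow]⟩

theorem one (h : ∀ s t : X, orderOf s = 2 → orderOf t = 2 → IsConj s t) :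
    ∀ s ∈ f.range, ∀ t ∈ f.range, orderOf s = 2 → orderOf t = 2 → ∃ g ∈ f.range, g * s * g⁻¹ = t := by
  rintro _ ⟨s, rfl⟩ _ ⟨t, rfl⟩ hs ht
  obtain ⟨g, e⟩ := isConj_iff.1 (h s t ((orderOf_injective f hf s).symm.trans hs)
    ((orderOf_injective f hf t).symm.trans ht))
  exact ⟨f g, ⟨g, rfl⟩, by rw [← e, map_mul, map_mul, map_inv]⟩

theorem ncomm (h : ¬ IsMulCommutative X) : ¬ IsMulCommutative f.range := fun k =>
  h ⟨⟨fun a b => hf (by
    rw [map_mul, map_mul]
    exact congrArg Subtype.val (k.is_comm.comm (⟨f a, a, rfl⟩ : f.range) ⟨f b, b, rfl⟩))⟩⟩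

end map

theorem tyO {F : Type} [Field F] [Fintype F] (h8 : Fintype.card F % 8 = 3 ∨ Fintype.card F % 8 = 5)
    (h3 : 3 < Fintype.card F) : ∃ r, ∀ ι : PSL(2, F) →* G, Function.Injective ι →
      TyO ι.range r (Fintype.card F) := by
  obtain ⟨r, hL, hr⟩ := Ward.locL_psl h8 h3
  refine ⟨r, fun ι hι => ?_⟩
  have hs : IsSimpleGroup PSL(2, F) := CfsgLib.Classical.psl_fin_isSimpleGroup 2 le_rfl fun _ => h3
  have e := (MonoidHom.ofInjective hι).symm
  refine ⟨e.isSimpleGroup, ncomm hι (psl_not_comm h3), hL.odd, by omega, hr, ?_,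
    one hι fun _ _ => hL.one, ?_, F, _, _, rfl, ⟨e⟩⟩
  · rw [Nat.card_congr e.toEquiv, mul_comm, Gold.Cor.card_psl_odd (Nat.odd_iff.2 (by omega))]
    ring
  · rintro _ ⟨s, rfl⟩ hs
    obtain ⟨y, w, hd, hy, hc⟩ := hL.tor s ((orderOf_injective ι hι s).symm.trans hs)
    refine ⟨ι y, ι w, cen1 hι s ▸ dih hι hd, ?_, ?_⟩
    · rw [← MonoidHom.map_zpowers]
      exact mem_map_of_mem ι hy
    · rw [← MonoidHom.map_zpowers]
      rintro _ ⟨a, ha, rfl⟩ h1
      rw [cen1 hι]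
      exact map_mono (hc a ha fun k => h1 (by rw [← map_mul, k, map_one]))

variable {X : Type*} [Group X] [Finite X]

theorem conj_inv (hg : Good X) {s t : X} (hs : orderOf s = 2) (ht : orderOf t = 2) : IsConj s t := by
  obtain ⟨V⟩ : Nonempty (Sylow 2 X) := inferInstance
  have k : ∀ s : X, orderOf s = 2 → ∃ v ∈ (V : Subgroup X), v ≠ 1 ∧ IsConj s v := fun s hs => by
    obtain ⟨g, -, hm⟩ := (IsSylowIn.of_sylow_top V).exists_conj_mem (mem_top s)
      (isPGroup_zpowers_iff.2 ⟨1, hs⟩)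
    exact ⟨_, hm, fun e => by simp [conj_eq_one_iff.1 e] at hs, isConj_iff.2 ⟨g, rfl⟩⟩
  obtain ⟨v, hv, v1, c1⟩ := k s hs
  obtain ⟨w, hw, w1, c2⟩ := k t ht
  obtain ⟨T, hT⟩ := hg.tr V
  obtain ⟨y, -, e⟩ := hT.trans v hv v1 w hw w1
  exact (c1.trans (isConj_iff.2 ⟨y, e⟩)).trans c2.symm

theorem cen_even (hg : Good X) {F : Type} [Field F] [Fintype F] [CharP F 2] (e : X ≃* PSL(2, F)) (V : Sylow 2 X)
    {v : X} (hv : v ∈ (V : Subgroup X)) (h1 : v ≠ 1) : centralizer ({v} : Set X) = V := by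
  refine V.is_maximal' (isPGroup_iff_mem.2 fun x hx => ⟨1, e.injective ?_⟩) (sylow_le_centralizer V (hg.ab2 V) hv)
  rw [pow_one, map_pow, map_one]
  refine (even_cent (v := e v) (n := 1) (by simpa using h1) (by rw [pow_one, pow_two, ← map_mul, hg.elem V v hv, map_one]) _
    (mem_centralizer_singleton_iff.2 ?_)).1
  rw [← map_mul, ← map_mul, mem_centralizer_singleton_iff.1 hx]

theorem cen_jr {F : Type} [Field F] [Fintype F] (ho : Odd (Fintype.card F)) (h3 : 3 < Fintype.card F) (hab : Ab2 X)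
    {t : X} {ι : PSL(2, F) →* X} (h : Ward.Frame t ι) (V : Sylow 2 X) :
    centralizer ((V : Subgroup X) : Set X) ≤ V := by
  have hab' := hab.of_injective ι h.inj
  obtain ⟨R⟩ : Nonempty (Sylow 2 PSL(2, F)) := inferInstance
  have hR := ((good_psl_odd ho h3 hab').four R (card_sylow_psl ho h3 R (hab' R))).1
  obtain ⟨W, hW⟩ := ((isPGroup_zpowers_iff.2 ⟨1, h.t_ord⟩).to_sup_of_normal_right' (R.isPGroup'.map ι)
    (zpowers_le.2 (centralizer_le_normalizer _ (by
      rintro _ ⟨u, -, rfl⟩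
      exact mem_centralizer_singleton_iff.1 (h.ι_mem u))))).exists_le_sylow
  have tW : t ∈ (W : Subgroup X) := hW (mem_sup_left (mem_zpowers t))
  have RW : ∀ u ∈ (R : Subgroup PSL(2, F)), ι u ∈ (W : Subgroup X) := fun u hu =>
    hW (mem_sup_right (mem_map_of_mem ι hu))
  have k : centralizer ((W : Subgroup X) : Set X) ≤ W := fun g hg => by
    obtain ⟨u, rfl | rfl⟩ := (h.mem g).1 (gd_cent_le tW hg)
    · exact RW u (hR ▸ fun a ha => (mem_centralizer_singleton_iff.1 (h.Hc_ι.1 (gd_cent_le (RW a ha) hg))).symm)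
    · exact mul_mem tW (RW u (hR ▸ fun a ha =>
        (mem_centralizer_singleton_iff.1 (h.Hc_tι.1 (gd_cent_le (RW a ha) hg))).symm))
  obtain ⟨g, rfl⟩ := MulAction.exists_smul_eq X W V
  rw [coe_smul_sylow, ← cj_centralizer]
  exact cj_mono g k

theorem sing [hs : IsSimpleGroup X] (hg : Good X) (V : Sylow 2 X) (hc : centralizer ((V : Subgroup X) : Set X) ≤ V)
    (h : (∀ v ∈ (V : Subgroup X), v ≠ 1 → centralizer ({v} : Set X) = V) ∨ (Nat.card (V : Subgroup X) - 1).Prime) :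
    ∃ z ∈ normalizer ((V : Subgroup X) : Set X), orderOf z + 1 = Nat.card (V : Subgroup X) ∧
      (∀ v ∈ (V : Subgroup X), v ≠ 1 → ∀ w ∈ (V : Subgroup X), w ≠ 1 → ∃ y ∈ zpowers z, y * v * y⁻¹ = w) ∧
      ∀ y ∈ zpowers z, ∀ v ∈ (V : Subgroup X), v ≠ 1 → y * v = v * y → y = 1 := by
  obtain ⟨C, hC, hcy, cC⟩ := ReeRec.exists_cyclic hg.ncomm hg.ab2 V
  obtain ⟨z, rfl⟩ := C.isCyclic_iff_exists_zpowers_eq_top.1 hcy
  have h4 := hg.four_le V
  have h1 := ncard_diff_one (V : Subgroup X)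
  have cop : ∀ y ∈ zpowers z, y ∈ (V : Subgroup X) → y = 1 := fun y hy hV => by
    have a1 := orderOf_dvd_natCard _ hy
    have a2 := Nat.dvd_sub (orderOf_dvd_natCard _ hV) a1
    rwa [cC, show Nat.card (V : Subgroup X) - (Nat.card (V : Subgroup X) - 1) = 1 by omega, Nat.dvd_one,
      orderOf_eq_one_iff] at a2
  have full : ∀ P ≤ zpowers z, ∀ v ∈ (V : Subgroup X), v ≠ 1 → Nat.card (V : Subgroup X) - 1 ≤ (orb P v).ncard →
      ∀ w ∈ (V : Subgroup X), w ≠ 1 → w ∈ orb P v := fun P hP v hv v1 hn w hw w1 => by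
    rw [Set.eq_of_subset_of_ncard_le ((orb_mono (hP.trans hC) v).trans (orb_subset _ hv v1)) (by omega)
      (Set.toFinite _)]
    exact ⟨hw, w1⟩
  have free : ∀ y ∈ zpowers z, ∀ v ∈ (V : Subgroup X), v ≠ 1 → y * v = v * y → y = 1 := fun y hy v hv v1 e => by
    refine cop y hy ?_
    rcases h with h | h
    · exact h v hv v1 ▸ mem_centralizer_singleton_iff.2 e
    refine hc fun w hw => ?_
    by_cases w1 : w = 1
    · simp [w1]
    have := Fact.mk h
    rcases ncard_orb_cases ((IsPGroup.of_card (n := 1) (cC.trans (pow_one _).symm)).to_le (zpowers_le.2 hy)) w with k | k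
    · exact (mem_centralizer_singleton_iff.1 (k (mem_zpowers y))).symm
    · obtain ⟨_, ⟨n, rfl⟩, e'⟩ := full _ (zpowers_le.2 hy) w hw w1 k v hv v1
      have c : Commute (y ^ n) v := (show Commute y v from e).zpow_left n
      rw [mul_inv_eq_iff_eq_mul, ← c.eq] at e'
      rw [mul_left_cancel e', e]
  refine ⟨z, hC (mem_zpowers z), by rw [← Nat.card_zpowers, cC]; omega, fun v hv v1 w hw w1 =>
    full _ le_rfl v hv v1 ?_ w hw w1, free⟩
  rw [ncard_orb, relIndex, (subgroupOf_eq_bot).2 (disjoint_def.2 fun hx hx' =>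
    free _ hx' v hv v1 (mem_centralizer_singleton_iff.1 hx)), index_bot, cC]

theorem sab [hs : IsSimpleGroup X] (hg : Good X) (V : Sylow 2 X) (hc : centralizer ((V : Subgroup X) : Set X) ≤ V)
    (h : (∀ v ∈ (V : Subgroup X), v ≠ 1 → centralizer ({v} : Set X) = V) ∨ (Nat.card (V : Subgroup X) - 1).Prime)
    {f : X →* G} (hf : Function.Injective f) (odd : Odd (((V : Subgroup X).map f).relIndex f.range)) :
    Sab f.range ((V : Subgroup X).map f) := by
  refine ⟨(MonoidHom.ofInjective hf).symm.isSimpleGroup, ncomm hf hg.ncomm, map_le_range _ _, V.isPGroup'.map f, odd,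
    ?_, card_map_of_injective hf ▸ hg.four_le V, ?_, one hf fun _ _ => conj_inv hg, ?_⟩
  · rintro _ ⟨v, hv, rfl⟩
    rw [← map_mul, hg.elem V v hv, map_one]
  · rw [cenS hf, le_antisymm hc (gd_le_centralizer (hg.ab2 V))]
  · obtain ⟨z, hz, h1, h2, h3⟩ := sing hg V hc h
    refine ⟨f z, ⟨z, rfl⟩, le_normalizer_map f (mem_map_of_mem f hz),
      by rw [orderOf_injective f hf, card_map_of_injective hf, h1], ?_, ?_⟩
    · rintro _ ⟨v, hv, rfl⟩ v1 _ ⟨w, hw, rfl⟩ w1
      obtain ⟨y, hy, e⟩ := h2 v hv (fun k => v1 (by rw [k, map_one])) w hw fun k => w1 (by rw [k, map_one])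
      exact ⟨f y, MonoidHom.map_zpowers f z ▸ mem_map_of_mem f hy, by rw [← e, map_mul, map_mul, map_inv]⟩
    · rw [← MonoidHom.map_zpowers]
      rintro _ ⟨y, hy, rfl⟩ _ ⟨v, hv, rfl⟩ v1 e
      rw [h3 y hy v hv (fun k => v1 (by rw [k, map_one])) (hf (by rwa [map_mul, map_mul])), map_one]

theorem range_eq {Y : Type*} [Group Y] (f : X →* G) (e : X ≃* Y) : (f.comp e.symm.toMonoidHom).range = f.range := by
  rw [MonoidHom.range_comp, MonoidHom.range_eq_top.2 e.symm.surjective, ← MonoidHom.range_eq_map]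

theorem core [hs : IsSimpleGroup X] (hn : ¬ IsMulCommutative X) (hab : Ab2 X) (V : Sylow 2 X)
    {f : X →* G} (hf : Function.Injective f) (odd : Odd (((V : Subgroup X).map f).relIndex f.range)) :
    Sab f.range ((V : Subgroup X).map f) ∧ Ty0 f.range ((V : Subgroup X).map f) := by
  have hg := good_of_ab2 WCor.inputs hs hn hab
  have cV := card_map_of_injective (K := (V : Subgroup X)) hf
  have cX := (Nat.card_congr (MonoidHom.ofInjective hf).toEquiv).symm
  by_cases h4 : Nat.card (V : Subgroup X) = 4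
  · obtain ⟨hc, ho⟩ := hg.four V h4
    obtain ⟨F, _, _, h5, h8, ⟨e⟩⟩ := Gold.Cor.pslOdd_mod hab ho
    obtain ⟨r, hr⟩ := tyO (G := G) h8 (by omega)
    exact ⟨sab hg V hc.le (.inr (by rw [h4]; norm_num)) hf odd,
      .inr (.inl ⟨r, _, cV.trans h4, range_eq f e ▸ hr _ (hf.comp e.symm.injective)⟩)⟩
  rcases classify WCor.inputs hs hn hab with ⟨F, _, _, _, hF, ⟨e⟩⟩ | ⟨F, _, _, ho, h3, ⟨e⟩⟩ | h
  · obtain ⟨⟨k, k0⟩, -, hk⟩ := FiniteField.card F 2
    change _ = 2 ^ k at hk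
    have c1 := WCor.card_sylow_pslEven k0 hk e V
    have hc := fun v => cen_even hg e V (v := v)
    obtain ⟨v, hv, v1, -⟩ := exists_ne_ne (hg.four_le V) 1 1
    refine ⟨sab hg V ((gd_cent_le hv).trans (hc v hv v1).le) (.inl hc) hf odd, .inl ⟨k, ?_, cV.trans c1, ?_, ?_, ?_,
      F, _, _, hk, ⟨(MonoidHom.ofInjective hf).symm.trans e⟩⟩⟩
    · by_contra h
      rw [c1] at h4
      rw [hk] at hF
      obtain rfl | rfl : k = 1 ∨ k = 2 := by omega
      all_goals omega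
    · have := Dickson.card_psl (K := F)
      rw [Nat.card_eq_fintype_card (α := F), hk, (Nat.coprime_two_left.2
        (Nat.Even.sub_odd Nat.one_le_two_pow ((Nat.even_pow' k0.ne').2 even_two) odd_one)).gcd_eq_one, one_mul,
        show (2 ^ k) ^ 2 - 1 = (2 ^ k + 1) * (2 ^ k - 1) by rw [← Nat.sq_sub_sq, one_pow]] at this
      rw [cX, Nat.card_congr e.toEquiv, this]
      ring
    · rintro _ ⟨s, hs, rfl⟩ s1
      rw [cen1 hf, hc s hs fun k => s1 (by rw [k, map_one])]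
    · obtain ⟨T, hT⟩ := hg.tr V
      have nt : NTrans (V : Subgroup X) := fun a ha a1 b hb b1 => by
        obtain ⟨y, hy, e⟩ := hT.trans a ha a1 b hb b1
        exact ⟨y, hT.le_norm hy, e⟩
      have := nt.relIndex hv v1
      rw [hc v hv v1] at this
      rw [nrm hf, card_map_of_injective hf, ← card_mul_relIndex' le_normalizer, ← c1, ← this, Nat.add_sub_cancel, this]
  · obtain ⟨W⟩ : Nonempty (Sylow 2 PSL(2, F)) := inferInstance
    refine (h4 ?_).elim
    rw [V.card_eq_multiplicity, Nat.card_congr e.toEquiv, ← W.card_eq_multiplicity,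
      card_sylow_psl ho h3 W (hab.of_injective e.symm.toMonoidHom e.symm.injective W)]
  · obtain ⟨F, _, _, t, ι, h', h3, h8⟩ := EL.exists_frame EL.reeD EL.jOrd h
    obtain ⟨r, hr⟩ := tyO (G := G) h8 h3
    refine ⟨sab hg V (cen_jr (Nat.odd_iff.2 (by omega)) h3 hab h' V) (.inr (by rw [h.card_sylow]; norm_num)) hf odd,
      .inr (.inr ⟨r, Fintype.card F, cV.trans (h.card_sylow V), ?_, ?_⟩)⟩
    · rintro _ ⟨s, rfl⟩ hs
      obtain ⟨k, rfl⟩ := isConj_iff.1 (h'.one t s h'.t_ord ((orderOf_injective f hf s).symm.trans hs))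
      have h2 := h'.conj k
      generalize k * t * k⁻¹ = s at h2
      generalize (MulAut.conj k).toMonoidHom.comp ι = κ at h2
      rw [cen1 hf]
      refine ⟨_, hr (f.comp κ) (hf.comp h2.inj), ?_, ?_, ?_⟩
      · rintro _ ⟨u, rfl⟩
        exact mem_map_of_mem f (h2.ι_mem u)
      · rintro ⟨u, e⟩
        exact h2.ne u (hf e)
      · rintro _ ⟨g, hg, rfl⟩
        obtain ⟨u, rfl | rfl⟩ := (h2.mem g).1 hg
        · exact .inl ⟨u, rfl⟩
        · exact .inr ⟨u, by rw [← map_mul, ← mul_assoc, h2.pre.tt, one_mul]; rfl⟩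
    · by_cases h5 : Fintype.card F = 5
      · exact .inl ⟨h5, cX.trans (EL.jOrd X F t ι h' h5)⟩
      · obtain ⟨m, hm, hF, hc⟩ := Ward.order_of_V h' h8 (by omega) (h'.wardV h8 h3)
        exact .inr ⟨m, hm, hF, by rw [cX, hc, hF]⟩

end TyOf

/-- Walter's theorem, in local form -/
theorem ty_of {D S : Subgroup G} (hs : IsSimpleGroup D) (hn : ¬ IsMulCommutative D) (le : S ≤ D)
    (two : IsPGroup 2 S) (odd : Odd (S.relIndex D)) (comm : ∀ x ∈ S, ∀ y ∈ S, x * y = y * x) :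
    Sab D S ∧ Ty0 D S := by
  have h : Tech.IsSylowIn 2 S D := ⟨le, two, fun k => (Nat.not_even_iff_odd.2 odd) (even_iff_two_dvd.2 k)⟩
  have := TyOf.core hn (Abel2.abelian_sylow_of_one h.toSylow ⟨⟨fun a b => Subtype.ext (Subtype.ext
    (comm _ (h.mem_toSylow.1 a.2) _ (h.mem_toSylow.1 b.2)))⟩⟩) h.toSylow D.subtype_injective
    (by rwa [h.map_toSylow, range_subtype])
  rwa [h.map_toSylow, range_subtype] at this

theorem TyO.alt5 {D : Subgroup G} {r q : ℕ} (h : TyO D r q) (h3 : ¬ 3 ≤ r) :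
    q = 5 ∧ Nonempty (D ≃* alternatingGroup (Fin 5)) := by
  have h1 := h.five_le
  have h2 := h.num
  obtain ⟨k, hk⟩ := h.odd
  obtain rfl : q = 5 := by omega
  obtain ⟨F, _, _, -, ⟨e⟩⟩ := h.iso
  have := h.card
  obtain ⟨e'⟩ := Abel2.gd_equiv_A5 (F := F) (by rw [← Nat.card_congr e.toEquiv]; omega)
  exact ⟨rfl, ⟨e.trans e'⟩⟩

end CfsgLib.TPS
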