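import Cfsg.Agent.Lib.TPS.Kim
import Cfsg.Agent.Lib.TPS.TyOf
import Cfsg.Agent.Lib.Fgs.ConjCount
import Cfsg.Agent.Lib.Tech.SylowIn

/-! Package X0: the set-up of type X.  See `plans/TPS.md`. -/

set_option autoImplicit false
set_option linter.unusedSectionVars false

namespace CfsgLib.TPS

open Subgroup MulAction CfsgLib.Perm CfsgLib.Kim CfsgLib.DihSyl

variable {G : Type*} [Group G] [Finite G] {Ω : Type*} [Finite Ω] [MulAction G Ω]
  [FaithfulSMul G Ω] {a b c d : Ω} {S : Subgroup G} {s t x y : G}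

/-- type X: the involution `t` interchanges `a`, `b` and centralises `G_{ab}` -/
structure XH (a b : Ω) (S : Subgroup G) (s t : G) : Prop extends Cx a b S where
  sS : s ∈ S
  os : orderOf s = 2
  tt : t * t = 1
  ta : t • a = b
  tb : t • b = a
  tc : ∀ d ∈ stab2 G a b, t * d = d * t

/-- an involution that normalises `D` and centralises `S` and the Singer cycle centralises `D` -/
theorem Sab.x0_cent {D : Subgroup G} (h : Sab D S) (ot : orderOf t = 2)
    (hn : t ∈ normalizer (D : Set G)) (tS : ∀ v ∈ S, v * t = t * v) {z : G} (zD : z ∈ D)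
    (zt : z * t = t * z) (tr : ∀ v ∈ S, v ≠ 1 → ∀ w ∈ S, w ≠ 1 → ∃ y ∈ zpowers z, y * v * y⁻¹ = w) :
    ∀ d ∈ D, t * d = d * t := by
  have := Fact.mk Nat.prime_two
  obtain ⟨tt, -⟩ := orderOf_eq_two_iff'.1 ot
  have ti : t⁻¹ = t := inv_eq_of_mul_eq_one_right tt
  have cD : ∀ k ∈ D, k * t * k⁻¹ * t ∈ D := fun k hk => by
    have := mul_mem hk ((mem_normalizer_iff.1 hn _).1 (inv_mem hk))
    rwa [ti, ← mul_assoc, ← mul_assoc] at this
  have SC : S ≤ centralizer ({t} : Set G) := fun v hv => memC (tS v hv)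
  obtain ⟨s, hs, s1, -⟩ := h.exists_ne 1
  have iso : ∀ x ∈ D, t * (x * t * x⁻¹) = x * t * x⁻¹ * t → x * t * x⁻¹ = t := by
    intro x hx hc
    by_contra hne
    have c1 : x * t * x⁻¹ * t ≠ 1 := fun e => hne (by rw [← ti, ← mul_eq_one_iff_eq_inv, ti, e])
    have c2 : x * t * x⁻¹ * t * (x * t * x⁻¹ * t) = 1 := by
      rw [mul_assoc, ← mul_assoc t, hc, mul_assoc _ t t, tt, mul_one, conj_mul_self tt]
    have syl : Tech.IsSylowIn 2 S (D ⊓ centralizer ({t} : Set G)) :=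
      Tech.IsSylowIn.of_le ⟨h.le, h.two, h.odd.not_two_dvd_nat⟩ (le_inf h.le SC) inf_le_left
    obtain ⟨k, hk, h1⟩ := syl.exists_conj_mem (x := x * t * x⁻¹ * t)
      ⟨cD x hx, memC (by rw [← mul_assoc, hc])⟩
      (IsPGroup.of_card (n := 1) (by rw [Nat.card_zpowers, orderOf_eq_two_iff'.2 ⟨c2, c1⟩]; rfl))
    have kt : k * t * k⁻¹ = t := mul_inv_eq_iff_eq_mul.2 (commC hk.2)
    have sub : (· * t) '' (S : Set G) ⊆ {y | ∃ k ∈ D, y = k * t * k⁻¹} := by
      rintro _ ⟨w, hw, rfl⟩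
      by_cases w1 : w = 1
      · exact ⟨1, one_mem _, by simp [w1]⟩
      obtain ⟨y, hy, e⟩ := tr _ h1 (by simpa using c1) w hw w1
      have yt : y * t * y⁻¹ = t :=
        mul_inv_eq_iff_eq_mul.2 (commC (zpowers_le.2 (memC zt) hy))
      refine ⟨y * k * x, mul_mem (mul_mem (zpowers_le.2 zD hy) hk.1) hx, ?_⟩
      calc w * t = y * (k * (x * t * x⁻¹ * t) * k⁻¹) * y⁻¹ * (y * (k * t * k⁻¹) * y⁻¹) := by
            rw [e, kt, yt]
        _ = y * k * x * t * (y * k * x)⁻¹ * (y * k * (t * t) * (y * k)⁻¹) := by group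
        _ = _ := by rw [tt]; group
    have o1 : Odd {y | ∃ k ∈ D, y = k * t * k⁻¹}.ncard := by
      rw [Fgs.ncard_conj_by_subgroup]
      exact h.odd.of_dvd_nat (relIndex_dvd_of_le_left D SC)
    have o2 : Even ((· * t) '' (S : Set G)).ncard := by
      rw [Set.ncard_image_of_injective _ (mul_left_injective t), ncard_coe, even_iff_two_dvd,
        ← h.ord hs s1]
      exact S.orderOf_dvd_natCard hs
    obtain ⟨x', ⟨⟨k', hk', rfl⟩, h2⟩, h3⟩ := @exists_fix_of_isPGroup G G _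
      (MulAction.compHom G (MulAut.conj : G →* MulAut G)) _ S h.two
      ({y | ∃ k ∈ D, y = k * t * k⁻¹} \ (· * t) '' (S : Set G)) (by
        rintro g hg _ ⟨⟨k, hk, rfl⟩, h2⟩
        refine ⟨⟨g * k, mul_mem (h.le hg) hk, ?_⟩, fun ⟨w, hw, e⟩ => h2 ⟨g⁻¹ * w * g,
          mul_mem (mul_mem (inv_mem hg) hw) hg, ?_⟩⟩
        · change g * (k * t * k⁻¹) * g⁻¹ = _
          group
        · change w * t = g * (k * t * k⁻¹) * g⁻¹ at e
          change g⁻¹ * w * g * t = _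
          rw [mul_assoc, tS g hg, ← mul_assoc, mul_assoc g⁻¹, e]; group)
      (by rw [Set.ncard_sdiff sub]; exact Nat.Odd.sub_even (Set.ncard_le_ncard sub) o1 o2)
    refine h2 ⟨k' * t * k'⁻¹ * t, h.cent.le ⟨cD k' hk', mem_centralizer_iff.2 fun g hg => ?_⟩, ?_⟩
    · have : g * (k' * t * k'⁻¹) * g⁻¹ = k' * t * k'⁻¹ := h3 g hg
      rw [← mul_assoc, mul_inv_eq_iff_eq_mul.1 this, mul_assoc, tS g hg, ← mul_assoc]
    · change _ * t * t = _
      rw [mul_assoc, tt, mul_one]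
  intro d hd
  have h1 := PD.zstar_in ot hn iso d hd
  rw [BG.oppOf_eq_map Nat.prime_two] at h1
  have := h.simple
  rcases IsSimpleGroup.eq_bot_or_eq_top_of_normal (Cfsg.pPrimeCore 2 D) inferInstance with e | e
  · rw [e, Subgroup.map_bot, mem_bot] at h1
    rwa [mul_inv_eq_one, mul_inv_eq_iff_eq_mul] at h1
  · have h2 := Invol.odd_orderOf_of_mem (Core.odd_card_oddCore D)
      (show (⟨s, h.le hs⟩ : D) ∈ Cfsg.pPrimeCore 2 D from e ▸ mem_top _)
    rw [orderOf_mk, h.ord hs s1] at h2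
    exact absurd h2 (by decide)

theorem Cx.exists_XH (h : Cx a b S) (hx : TX a b S) : ∃ s t : G, XH a b S s t := by
  obtain ⟨u, ua, ub, uS⟩ := hx
  obtain ⟨z, zD, zN, oz, tr, fr⟩ := h.sab.sing
  have z1 : z ≠ 1 := fun e => by
    have := h.sab.four_le
    rw [e, orderOf_one] at oz
    omega
  have uc : ∀ v ∈ S, v * u = u * v := mem_centralizer_iff.1 uS
  have nz : ∀ v ∈ S, z * v * z⁻¹ ∈ S := fun v hv => (mem_normalizer_iff.1 zN v).1 hv
  have nrm : ∀ {t : G}, t • a = b → t • b = a → t ∈ normalizer (stab2 G a b : Set G) :=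
    fun {t} ta tb => Tech.mem_normalizer_of_forall fun d hd =>
      ⟨show _ • a = a by rw [← tb, conj_smul, hd.2], show _ • b = b by rw [← ta, conj_smul, hd.1]⟩
  have hw : z * u * z⁻¹ * u⁻¹ ∈ S := by
    refine h.sab.cent.le ⟨?_, mem_centralizer_iff.2 fun v hv => ?_⟩
    · rw [mul_assoc, mul_assoc, ← mul_assoc u]
      exact mul_mem zD ((mem_normalizer_iff.1 (nrm ua ub) _).1 (inv_mem zD))
    · have e := uc _ ((mem_normalizer_iff.1 (inv_mem zN) v).1 hv)
      have e' : u⁻¹ * v = v * u⁻¹ := by rw [inv_mul_eq_iff_eq_mul, ← mul_assoc, ← uc v hv]; group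
      calc _ = z * (z⁻¹ * v * z⁻¹⁻¹ * u) * z⁻¹ * u⁻¹ := by group
        _ = z * u * z⁻¹ * (v * u⁻¹) := by rw [e]; group
        _ = _ := by rw [← e']; group
  obtain ⟨⟨v, hv⟩, e⟩ := Finite.injective_iff_surjective.1 (show Function.Injective
    (fun v : S => (⟨v * (z * v * z⁻¹)⁻¹, mul_mem v.2 (inv_mem (nz v v.2))⟩ : S)) from fun v w e => by
      have e1 : (v : G) * (z * v * z⁻¹)⁻¹ = w * (z * w * z⁻¹)⁻¹ := congrArg Subtype.val e
      by_contra ne
      refine z1 (fr z (mem_zpowers z) ((w : G)⁻¹ * v) (mul_mem (inv_mem w.2) v.2)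
        (fun e => ne (Subtype.ext (inv_mul_eq_one.1 e).symm)) ?_)
      calc z * ((w : G)⁻¹ * v) = (w : G)⁻¹ * (w * (z * w * z⁻¹)⁻¹) * z * v := by group
        _ = _ := by rw [← e1]; group) ⟨_, hw⟩
  have e1 : v * (z * v * z⁻¹)⁻¹ = z * u * z⁻¹ * u⁻¹ := congrArg Subtype.val e
  have zt : z * (u * v) = u * v * z := by
    calc z * (u * v) = z * u * z⁻¹ * u⁻¹ * (u * (z * v * z⁻¹)) * z := by group
      _ = v * u * z := by rw [← e1, ← uc _ (nz v hv)]; group
      _ = _ := by rw [uc v hv]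
  have ta : (u * v) • a = b := by rw [mul_smul, (h.sab.le hv).1, ua]
  have tb : (u * v) • b = a := by rw [mul_smul, (h.sab.le hv).2, ub]
  have tS : ∀ w ∈ S, w * (u * v) = u * v * w := fun w hw => by
    rw [← mul_assoc, uc w hw, mul_assoc, h.sab.comm hw hv, mul_assoc]
  generalize u * v = t at zt ta tb tS
  have tt : t * t = 1 := by
    by_contra ne
    refine z1 (fr z (mem_zpowers z) _ (h.sab.cent.le ⟨mul_mem_stab2_of_swap ta tb ta tb,
      mem_centralizer_iff.2 fun w hw => ?_⟩) ne ?_)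
    · rw [← mul_assoc, tS w hw, mul_assoc, tS w hw, mul_assoc]
    · rw [← mul_assoc, zt, mul_assoc, zt, mul_assoc]
  obtain ⟨s, hs, s1, -⟩ := h.sab.exists_ne 1
  exact ⟨s, t, h, hs, h.sab.ord hs s1, tt, ta, tb, h.sab.x0_cent
    (orderOf_eq_two_iff'.2 ⟨tt, fun e => h.ne (by rw [← ta, e, one_smul])⟩) (nrm ta tb) tS zD zt tr⟩

namespace XH

variable (h : XH a b S s t)
include h

theorem sD : s ∈ stab2 G a b := h.sab.le h.sS

theorem ot : orderOf t = 2 := by
  exact orderOf_eq_two_iff'.2 ⟨h.tt, fun e => h.ne (by rw [← h.ta, e, one_smul])⟩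

theorem sw_eq (ha : x • a = b) (hb : x • b = a) : ∃ d ∈ stab2 G a b, x = d * t := by
  exact ⟨x * t, mul_mem_stab2_of_swap ha hb h.ta h.tb, by rw [mul_assoc, h.tt, mul_one]⟩

theorem x0_sq {k : G} (hk : k ∈ stab2 G a b) : k * t * (k * t) = k * k := by
  rw [mul_assoc, ← mul_assoc t, h.tc k hk, mul_assoc, h.tt, mul_one]

theorem sw_inv (hx : x * x = 1) (ha : x • a = b) (hb : x • b = a) :
    x = t ∨ ∃ d ∈ stab2 G a b, orderOf d = 2 ∧ x = d * t := by
  obtain ⟨k, hk, rfl⟩ := h.sw_eq ha hb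
  by_cases e : k = 1
  · exact .inl (by rw [e, one_mul])
  · exact .inr ⟨k, hk, orderOf_eq_two_iff'.2 ⟨h.x0_sq hk ▸ hx, e⟩, rfl⟩

theorem conj_st (hx : x ∈ stab2 G a b) (h2 : orderOf x = 2) : IsConj (s * t) (x * t) := by
  obtain ⟨g, hg, rfl⟩ := h.sab.one s h.sD x hx h.os h2
  refine isConj_iff.2 ⟨g, ?_⟩
  rw [mul_assoc, mul_assoc g s, mul_assoc s, h.tc _ (inv_mem hg)]; group

theorem inv (hx : x * x = 1) (h1 : x ≠ 1) : IsConj t x ∨ IsConj (s * t) x := by
  obtain ⟨g, ha, hb⟩ := h.conj_sw hx h1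
  rcases h.sw_inv (conj_mul_self hx g) ha hb with e | ⟨k, hk, ok, e⟩
  · exact .inl (e ▸ (isConj_conj x g).symm)
  · exact .inr ((h.conj_st hk ok).trans (e ▸ (isConj_conj x g).symm))

/-- `s` is not a square -/
theorem nosq (g : G) : ¬ IsConj s (g * g) := by
  intro hc
  obtain ⟨ss, s1⟩ := orderOf_eq_two_iff'.1 h.os
  have h4 := mul_self_of_isConj ss hc
  refine ne_one_of_isConj s1 hc ?_
  have k : ∀ k : G, ((k⁻¹ * g * k) • a = a ∧ (k⁻¹ * g * k) • b = b ∨
      (k⁻¹ * g * k) • a = b ∧ (k⁻¹ * g * k) • b = a) → g * g = 1 := fun k hk => by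
    have h5 : k⁻¹ * g * k * (k⁻¹ * g * k) * (k⁻¹ * g * k * (k⁻¹ * g * k)) = 1 := by
      calc _ = k⁻¹ * (g * g * (g * g)) * k := by group
        _ = 1 := by rw [h4]; group
    have h6 : k⁻¹ * g * k * (k⁻¹ * g * k) = 1 := by
      rcases hk with e | e
      · exact h.sab.sq e h5
      · obtain ⟨d, hd, e⟩ := h.sw_eq e.1 e.2
        rw [e, h.x0_sq hd] at h5 ⊢
        exact h.sab.sq hd h5
    calc g * g = k * (k⁻¹ * g * k * (k⁻¹ * g * k)) * k⁻¹ := by group
      _ = 1 := by rw [h6]; group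
  have k2 : ∀ c : Ω, (g * g) • c = c → g • c ≠ c → g * g = 1 := fun c h1 h2 => by
    obtain ⟨l, la, lb⟩ := h.two h2.symm
    exact k l (.inr ⟨by rw [mul_smul, mul_smul, la, ← lb, inv_smul_smul],
      by rw [mul_smul, mul_smul, lb, ← mul_smul g, h1, ← la, inv_smul_smul]⟩)
  obtain ⟨l, hl⟩ := isConj_iff.1 hc
  by_cases e1 : g • l • a = l • a
  · by_cases e2 : g • l • b = l • b
    · exact k l (.inl ⟨by rw [mul_smul, mul_smul, e1, inv_smul_smul],
        by rw [mul_smul, mul_smul, e2, inv_smul_smul]⟩)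
    · exact k2 _ (by rw [← hl, conj_smul, h.sD.2]) e2
  · exact k2 _ (by rw [← hl, conj_smul, h.sD.1]) e1

theorem cases : IsConj s t ∨ IsConj s (s * t) := h.inv (by simpa [pow_two, h.os] using pow_orderOf_eq_one s)
  (fun e => by simpa [e] using h.os) |>.imp IsConj.symm IsConj.symm

variable (hn : ¬ IsConj s t)
include hn

theorem card_sq : Nat.card Ω = (fixedBy Ω s).ncard ^ 2 := by
  obtain ⟨h1, -, h2, -⟩ := h.cnt h.sD h.os
  obtain ⟨ss, s1⟩ := orderOf_eq_two_iff'.1 h.os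
  have e : sw (cls s) a b = (· * t) '' f2 (cls s) a b := by
    rw [h.f2_eq h.sD h.os]
    ext x
    refine ⟨fun hx => ?_, ?_⟩
    · rcases h.sw_inv (mul_self_of_isConj ss hx.1) hx.2.1 hx.2.2 with e | ⟨k, hk, ok, e⟩
      · exact absurd (e ▸ hx.1) hn
      · exact ⟨k, ⟨hk, ok⟩, e.symm⟩
    · rintro ⟨k, hk, rfl⟩
      exact ⟨(h.cases.resolve_left hn).trans (h.conj_st hk.1 hk.2),
        by rw [mul_smul, h.ta, hk.1.2], by rw [mul_smul, h.tb, hk.1.1]⟩
  rw [e, Set.ncard_image_of_injective _ (mul_left_injective t)] at h1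
  have h3 := mul_left_cancel₀ (by exact_mod_cast h2.ne') h1
  zify
  linear_combination h3

theorem fix_eq (hx : IsConj t x) (hc : x • c = c) (hd : x • d = d) : c = d := by
  by_contra hcd
  obtain ⟨g, -, -, e⟩ := h.conj_of_fix h.sD h.os (orderOf_eq_two_iff'.2
    ⟨mul_self_of_isConj h.tt hx, ne_one_of_isConj (orderOf_eq_two_iff'.1 h.ot).2 hx⟩) hcd hc hd
  exact hn ((isConj_iff.2 ⟨g, e⟩).trans hx.symm)

theorem x0_eq (hx : IsConj t x) (ha : x • a = b) (hb : x • b = a) : x = t := by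
  refine (h.sw_inv (mul_self_of_isConj h.tt hx) ha hb).resolve_right ?_
  rintro ⟨k, hk, ok, rfl⟩
  exact hn (((h.cases.resolve_left hn).trans (h.conj_st hk ok)).trans hx.symm)

theorem uniq (hx : IsConj t x) (hy : IsConj t y) (e : x • c = y • c) (hc : x • c ≠ c) : x = y := by
  obtain ⟨g, ga, gb⟩ := h.two hc.symm
  have k : ∀ {y : G}, IsConj t y → x • c = y • c → g⁻¹ * y * g⁻¹⁻¹ = t := fun {y} hy e =>
    h.x0_eq hn (hy.trans (isConj_conj y _))
      (by rw [inv_inv, mul_smul, mul_smul, ga, ← e, ← gb, inv_smul_smul])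
      (by rw [inv_inv, mul_smul, mul_smul, gb, e, ← mul_smul y, mul_self_of_isConj h.tt hy, one_smul,
        ← ga, inv_smul_smul])
  simpa using (k hx rfl).trans (k hy e).symm

theorem fpf (he : Even (Nat.card Ω)) (hx : IsConj t x) (c : Ω) : x • c ≠ c := by
  intro hc
  obtain ⟨d, -, h1, h2⟩ := exists_fix_ne_of_even (F := (Set.univ : Set Ω)) (g := x) (fun _ _ => trivial)
    (fun y _ => by rw [← mul_smul, mul_self_of_isConj h.tt hx, one_smul])
    (by rwa [Set.ncard_univ]) trivial hc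
  exact h1 (h.fix_eq hn hx h2 hc)

theorem caseC_odd (ho : Odd (Nat.card Ω)) : False := by
  have Zf : ∀ x ∈ cls t, (fixedBy Ω x).ncard = 1 := fun x hx => by
    obtain ⟨c, -, hc⟩ := exists_fix_of_odd (F := (Set.univ : Set Ω)) (g := x) (fun _ _ => trivial)
      (fun y _ => by rw [← mul_smul, mul_self_of_isConj h.tt hx, one_smul]) (by rwa [Set.ncard_univ])
    exact Set.ncard_eq_one.2 ⟨c, Set.eq_singleton_iff_unique_mem.2
      ⟨hc, fun d hd => h.fix_eq hn hx hd hc⟩⟩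
  obtain ⟨c, hc⟩ := Set.ncard_eq_one.1 (Zf t (IsConj.refl t))
  have htc : t • c = c := show c ∈ fixedBy Ω t from hc ▸ rfl
  have hfix : ∀ g : G, g * t = t * g → g • c = c := fun g hg =>
    show g • c ∈ ({c} : Set Ω) from hc ▸ smul_fix_of_comm hg htc
  have e1 := (tt_top h.h2).cnt_f1_of_one (cls_conj t) (fun _ _ => trivial)
    (fun x hx y _ => by rw [← mul_smul, mul_self_of_isConj h.tt hx, one_smul])
    (fun x hx => by rw [Set.inter_univ, Zf x hx]) trivial trivial h.ne (c := c) trivial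
  have e2 : sw (cls t) a b = {t} := Set.eq_singleton_iff_unique_mem.2
    ⟨⟨IsConj.refl t, h.ta, h.tb⟩, fun x hx => h.x0_eq hn hx.1 hx.2.1 hx.2.2⟩
  rw [e2, Set.ncard_singleton] at e1
  have iso : Cfsg.IsIsolatedInvolution t := ⟨h.ot, fun g hg =>
    (Set.ncard_le_one (Set.toFinite _)).1 e1.le _ ⟨isConj_conj t g, hfix _ hg.symm⟩ _
      ⟨IsConj.refl t, htc⟩⟩
  have hz := mem_center_iff.1 (ZStar.zstar_center (oddCore_eq_bot h.h2 h.hn) iso)
  obtain ⟨g, -, e⟩ := (tt_top h.h2).one (a := c) (b := a) trivial trivial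
  have e3 := hfix t rfl
  rw [hfix g (hz g)] at e
  rw [e, h.ta] at e3
  exact h.ne e3.symm

end XH

end CfsgLib.TPS
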