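import Cfsg.Agent.Lib.TPS.X0
import Cfsg.Agent.Lib.Tech.SylowIn

/-! Package XA.  See `plans/TPS.md`. -/

set_option autoImplicit false
set_option linter.unusedSectionVars false

namespace CfsgLib.TPS

open Subgroup MulAction CfsgLib.Perm CfsgLib.Kim CfsgLib.DihSyl

variable {G : Type*} [Group G] [Finite G] {Ω : Type*} [Finite Ω] [MulAction G Ω]
  [FaithfulSMul G Ω] {a b : Ω} {S : Subgroup G} {s t : G}

theorem xa_sq {v : G} (h : orderOf v = 2) : v * v = 1 := by rw [← pow_two, ← h, pow_orderOf_eq_one]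

theorem xa_ne {v : G} (h : orderOf v = 2) : v ≠ 1 := fun e => by simp [e] at h

theorem xa_ord {v : G} (h : v * v = 1) (h1 : v ≠ 1) : orderOf v = 2 := orderOf_eq_prime ((pow_two v).trans h) h1

/-- the involutions of `D ⊓ C(s)` fix the fixed points of `s` -/
theorem XH.xa_fix (h : XH a b S s t) (h2 : ¬ IsConj s (s * t)) {v : G}
    (hv : v ∈ stab2 G a b ⊓ centralizer ({s} : Set G)) (ov : orderOf v = 2) : v ∈ fixingSubgroup G (fixedBy Ω s) := by
  rw [mem_fixingSubgroup_iff]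
  intro x hx
  by_contra hm
  have vs : v * s = s * v := mem_centralizer_singleton_iff.1 hv.2
  have v2 := xa_sq ov
  have hy : s • v • x = v • x := smul_fix_of_comm vs hx
  obtain ⟨g, ga, gb⟩ := h.two (Ne.symm hm)
  have cs : ∀ u ∈ stab2 G a b, orderOf u = 2 → IsConj s u := fun u hu ou =>
    let ⟨k, _, e⟩ := h.sab.one s h.sD u hu h.os ou; isConj_iff.2 ⟨k, e⟩
  have cg : ∀ u : G, IsConj u (g⁻¹ * u * g) := fun u => isConj_iff.2 ⟨g⁻¹, by rw [inv_inv]⟩
  have sm : ∀ (u : G) (p q : Ω), u • g • p = g • q → (g⁻¹ * u * g) • p = q := fun u p q e => by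
    rw [mul_smul, mul_smul, e, inv_smul_smul]
  rcases h.sw_inv (x := g⁻¹ * v * g)
      (by rw [show g⁻¹ * v * g * (g⁻¹ * v * g) = g⁻¹ * (v * v) * g by group, v2]; group)
      (sm _ _ _ (by rw [ga, gb])) (sm _ _ _ (by rw [ga, gb, ← mul_smul, v2, one_smul])) with e | ⟨d, hd, od, e⟩
  · have k := h.conj_st (x := g⁻¹ * s * g) ⟨sm _ _ _ (by rw [ga]; exact hx), sm _ _ _ (by rw [gb, hy])⟩
      (xa_ord (by rw [show g⁻¹ * s * g * (g⁻¹ * s * g) = g⁻¹ * (s * s) * g by group, xa_sq h.os]; group)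
        fun k => xa_ne h.os (by rw [show s = g * (g⁻¹ * s * g) * g⁻¹ by group, k]; group))
    rw [← e, show g⁻¹ * s * g * (g⁻¹ * v * g) = g⁻¹ * (s * v) * g by group] at k
    refine h2 ((cs (s * v) (mul_mem h.sD hv.1) (xa_ord ?_ fun k1 => hm ?_)).trans ((cg _).trans (e ▸ k.symm)))
    · rw [mul_assoc, ← mul_assoc v, vs, mul_assoc, v2, mul_one, xa_sq h.os]
    · rw [← hy, ← mul_smul, k1, one_smul]
  · exact h2 ((cs v hv.1 ov).trans ((cg v).trans (e ▸ (h.conj_st hd od).symm)))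

theorem XH.caseA (h : XH a b S s t) (h1 : IsConj s t) (h2 : ¬ IsConj s (s * t)) : False := by
  have tC := h.tC h.sD h.os
  have aF : a ∈ fixedBy Ω s := h.sD.1
  have bF : b ∈ fixedBy Ω s := h.sD.2
  have s1 := xa_ne h.os
  have hW := h.sab.gen h.ty.ty0 h.sS s1 fun v hv ov => h.xa_fix h2 hv ov
  obtain ⟨-, sh1, sh2⟩ := sharp tC aF bF h.ne fun g hg ga gb => (mem_fixingSubgroup_iff G).1 (hW ⟨⟨ga, gb⟩, hg⟩)
  obtain ⟨g, hg⟩ := isConj_iff.1 h1.symm
  have mC : ∀ {d}, d ∈ stab2 G a b → g * d * g⁻¹ ∈ centralizer ({s} : Set G) := fun {d} hd => by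
    rw [mem_centralizer_singleton_iff, ← hg, conj_mul, conj_mul, h.tc d hd]
  have fa : ∀ {d}, d ∈ stab2 G a b → (∀ x ∈ fixedBy Ω s, (g * d * g⁻¹) • x = x) → d = 1 := fun {d} hd k => by
    by_contra d1
    have k1 := h.sab.le_of_normal (N := (fixingSubgroup G (fixedBy Ω s)).comap (MulAut.conj g).toMonoidHom)
      (fun c hc x hx => (mem_fixingSubgroup_iff G).2 fun y hy => by
        change (g * (c * x * c⁻¹) * g⁻¹) • y = y
        rw [show g * (c * x * c⁻¹) * g⁻¹ = g * c * g⁻¹ * (g * x * g⁻¹) * (g * c * g⁻¹)⁻¹ by group, mul_smul, mul_smul]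
        have k2 : (g * x * g⁻¹) • _ = _ := (mem_fixingSubgroup_iff G).1 hx _ (tC.inv _ (inv_mem (mC hc)) y hy)
        rw [k2, smul_inv_smul]) ((mem_fixingSubgroup_iff G).2 k) hd d1
    have k2 : g ∈ normalizer (stab2 G a b : Set G) := Tech.mem_normalizer_of_forall fun x hx =>
      ⟨(mem_fixingSubgroup_iff G).1 (k1 hx) a aF, (mem_fixingSubgroup_iff G).1 (k1 hx) b bF⟩
    refine s1 (h.sab.eq_one_of_comm h.sD fun c hc => ?_)
    have k3 := mem_centralizer_singleton_iff.1 (mC (Tech.conj_mem_of_mem_normalizer' k2 hc))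
    rw [show g * (g⁻¹ * c * g) * g⁻¹ = c by group] at k3
    exact k3.symm
  have sq : ∀ {d}, d * d = 1 → ∀ x ∈ fixedBy Ω s, (g * d * g⁻¹) • (g * d * g⁻¹) • x = x := fun {d} k x _ => by
    rw [← mul_smul, conj_mul, k, mul_one, mul_inv_cancel, one_smul]
  have ag : ∀ {d e}, d ∈ stab2 G a b → e ∈ stab2 G a b →
      (∀ x ∈ fixedBy Ω s, (g * d * g⁻¹) • x = (g * e * g⁻¹) • x) → d = e := fun {d e} hd he k =>
    (inv_mul_eq_one.1 (fa (mul_mem (inv_mem he) hd) fun x hx => by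
      rw [← conj_mul, mul_smul, k x hx, ← mul_smul, conj_mul, inv_mul_cancel, mul_one, mul_inv_cancel, one_smul])).symm
  rcases Nat.even_or_odd (fixedBy Ω s).ncard with he | ho
  · obtain ⟨x, hx, y, hy, ox, oy, k⟩ := h.sab.exists_ncomm
    have fp : ∀ {d}, d ∈ stab2 G a b → orderOf d = 2 → ∀ c ∈ fixedBy Ω s, (g * d * g⁻¹) • c ≠ c :=
      fun {d} hd od c hc e => by
        obtain ⟨c', hc', ne, e'⟩ := exists_fix_ne_of_even (tC.inv _ (mC hd)) (sq (xa_sq od)) he hc e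
        exact xa_ne od (fa hd (sh1 _ (mC hd) c' hc' c hc ne e' e))
    refine k (ag (mul_mem hx hy) (mul_mem hy hx) fun c hc => ?_)
    rw [← conj_mul, ← conj_mul, mul_smul, mul_smul _ (g * x * g⁻¹)]
    exact sh2 _ (mC hx) _ (mC hy) (fp hx ox) (fp hy oy) c hc
  · obtain ⟨c, hc, k⟩ := exists_fix_of_isPGroup (Tech.isPGroup_cj g h.sab.two) (F := fixedBy Ω s) (by
      rintro _ ⟨d, hd, rfl⟩
      exact tC.inv _ (mC (h.sab.le hd))) ho
    obtain ⟨v, hv, v1, vs⟩ := h.sab.exists_ne s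
    have nt : ∀ {d}, d ∈ S → d ≠ 1 → ∃ x ∈ fixedBy Ω s, (g * d * g⁻¹) • x ≠ x := fun {d} hd d1 => by
      by_contra! k
      exact d1 (fa (h.sab.le hd) k)
    exact vs (ag (h.sab.le hv) h.sD (tC.uniq_inv ho sh1 hc (mC (h.sab.le hv)) (mC h.sD)
      (k _ (Tech.conj_mem_cj.2 hv)) (k _ (Tech.conj_mem_cj.2 h.sS)) (sq (h.sab.elem v hv)) (sq (xa_sq h.os))
      (nt hv v1) (nt h.sS s1)))

end CfsgLib.TPS
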