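import Cfsg.Agent.Lib.TPS.X0

/-! Package XB.  See `plans/TPS.md`. -/

set_option autoImplicit false
set_option linter.unusedSectionVars false

namespace CfsgLib.TPS

open Subgroup MulAction CfsgLib.Perm CfsgLib.Kim CfsgLib.DihSyl

variable {G : Type*} [Group G] [Finite G] {Ω : Type*} [Finite Ω] [MulAction G Ω]
  [FaithfulSMul G Ω] {a b : Ω} {S : Subgroup G} {s t : G}

theorem xb_num {N p i r e : ℤ} (he : e = 1 ∨ e = -1) (hp : 7 ≤ p) (hr : r = 3 ∨ r = 5 ∨ 7 ≤ r)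
    (hN : N = (4 * p + e) * (4 * p + 2 * e)) (h1 : N * (p * (p - 1)) = i * (i - 1) * (2 * r))
    (h2 : N * (i - p) = i * (i - 1) * (2 * r + 2)) : False := by
  have N0 : 0 < N := hN ▸ mul_pos (by omega) (by omega)
  have k1 : r * i = p * ((r + 1) * p - 1) := mul_left_cancel₀ N0.ne' (by linear_combination r * h2 - (r + 1) * h1)
  have k2 : N * r = 2 * ((r + 1) * p - 1) * ((r + 1) * p + r) :=
    mul_left_cancel₀ (mul_pos (by omega : 0 < p) (by omega : 0 < p - 1)).ne'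
      (by linear_combination r * h1 + 2 * (r * i + p * ((r + 1) * p - 1) - r) * k1)
  rw [hN] at k2
  rcases hr with rfl | rfl | hr
  · rcases he with rfl | rfl <;> nlinarith
  · rcases he with rfl | rfl
    · nlinarith
    · rcases le_or_gt p 13 with k | k <;> nlinarith
  · have k3 : 0 ≤ (r * r - 7 * r) * (p * p) := mul_nonneg (by nlinarith) (by positivity)
    have k4 : 0 ≤ (r * r - 6 * r - 1) * p := mul_nonneg (by nlinarith) (by omega)
    have k5 : 0 ≤ r * (p * p - 2) := mul_nonneg (by omega) (by nlinarith)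
    have k6 : 0 ≤ r * p := by positivity
    rcases he with rfl | rfl <;> nlinarith

omit [Finite G] in
theorem xb_L {K L : Subgroup G} (hs : s * s = 1) (hK : K ≤ centralizer {s}) (hL : L ≤ K)
    (h : ∀ g ∈ K, g ∈ L ∨ s * g ∈ L) {g : G} (hg : g ∈ K) : g * g ∈ L ∧ ∀ x ∈ L, g * x * g⁻¹ ∈ L := by
  rcases h g hg with k | k
  · exact ⟨mul_mem k k, fun x hx => mul_mem (mul_mem k hx) (inv_mem k)⟩
  refine ⟨?_, fun x hx => ?_⟩
  · have := mul_mem k k
    rwa [mul_assoc, ← mul_assoc g, mem_centralizer_singleton_iff.1 (hK hg), mul_assoc, ← mul_assoc, hs, one_mul] at this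
  · have := mul_mem (mul_mem k hx) (inv_mem k)
    rwa [show s * g * x * (s * g)⁻¹ = s * (g * x * g⁻¹) * s⁻¹ by group, ← mem_centralizer_singleton_iff.1
      (hK (mul_mem (mul_mem hg (hL hx)) (inv_mem hg))), mul_inv_cancel_right] at this

omit [Finite G] in
theorem xb_comm {K : Subgroup G} (h : ∀ x ∈ K, x * x = 1) : ∀ x ∈ K, ∀ y ∈ K, x * y = y * x :=
  fun _ hx _ hy => Reg.comm_of_sq h hx hy

theorem XH.xb_J (h : XH a b S s t) {M L : Subgroup G} (hM : M.Normal) (iM : ∀ x, x * x = 1 → x ∈ M) {r q r0 q0 : ℕ}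
    (h7 : 7 ≤ r) (h3 : 3 ≤ r0) (h4 : Nat.card S = 4) (hD : TyO (stab2 G a b) r0 q0) (hL : TyO L r q)
    (le : L ≤ M ⊓ centralizer {s}) (sL : s ∉ L) (dec : ∀ g ∈ M ⊓ centralizer {s}, g ∈ L ∨ s * g ∈ L) : False := by
  have ss := bas_sq h.os
  have s1 := bas_ne h.os
  have SC : S ≤ centralizer {s} := fun x hx => mem_centralizer_singleton_iff.2 (h.sab.comm hx h.sS)
  have cs : ∀ {x}, x ∈ centralizer ({s} : Set G) → x * s = s * x := mem_centralizer_singleton_iff.1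
  have sq : ∀ {x}, x ∈ centralizer ({s} : Set G) → s * x * (s * x) = x * x := fun {x} k => by
    rw [mul_assoc, ← mul_assoc x, cs k, mul_assoc, ← mul_assoc, ss, one_mul]
  have n1 : ∀ {x}, x ≠ s → s * x ≠ 1 := fun k e => k (mul_left_cancel (e.trans ss.symm))
  have ns : ∀ {x}, x ≠ 1 → s * x ≠ s := fun k e => k (mul_eq_left.1 e)
  obtain ⟨u, uS, u1, us, uL⟩ : ∃ u ∈ S, u ≠ 1 ∧ u ≠ s ∧ u ∈ L := by
    obtain ⟨v, vS, v1, vs⟩ := h.sab.exists_ne s
    exact (dec v ⟨iM v (h.sab.elem v vS), SC vS⟩).elim (fun k => ⟨v, vS, v1, vs, k⟩)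
      fun k => ⟨s * v, mul_mem h.sS vS, n1 vs, ns v1, k⟩
  have ou := h.sab.ord uS u1
  have mS := fun x => h.sab.four h4 h.sS uS s1 u1 us (x := x)
  have aS : a ∈ Fx Ω S := fun x hx => (h.sab.le hx).1
  have bS : b ∈ Fx Ω S := fun x hx => (h.sab.le hx).2
  -- the number of fixed points of `S`
  have f0 : (Fx Ω S).ncard = r := by
    obtain ⟨y, w, hy, -, -⟩ := hL.tor u uL ou
    have oy : orderOf (y ^ 2) = r := by
      rw [orderOf_pow' _ two_ne_zero, hy.ord, Nat.gcd_mul_right_left, Nat.mul_div_cancel_left _ two_pos]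
    have RC : zpowers (y ^ 2) ≤ centralizer (S : Set G) := zpowers_le.2 (pow_mem (fun x hx => by
      have k1 := cs (le hy.r_mem.1).2
      have k2 := mem_centralizer_singleton_iff.1 hy.r_mem.2
      rcases (mS x).1 hx with rfl | rfl | rfl | rfl
      exacts [by simp, k1.symm, k2.symm, by rw [mul_assoc, ← k2, ← mul_assoc, ← k1, mul_assoc]]) 2)
    have Rr : ∀ x ∈ zpowers (y ^ 2), x ^ r = 1 := fun x hx =>
      orderOf_dvd_iff_pow_eq_one.1 (oy ▸ orderOf_dvd_of_mem_zpowers hx)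
    obtain ⟨m, hm⟩ := hL.odd
    rw [card_of_abelian h.tN aS (RC.trans (centralizer_le_normalizer _)) (fun g hg x hx => ?_) (fun x hx z hz => ?_)
      (fun k => ?_) fun x hx k => ?_, Nat.card_zpowers, oy]
    · have k1 : g * x * g⁻¹ ∈ centralizer (S : Set G) := fun v hv => by
        have := RC hx _ ((mem_normalizer_iff''.1 hg v).1 hv)
        calc _ = g * (g⁻¹ * v * g * x) * g⁻¹ := by group
          _ = _ := by rw [this]; group
      have k2 : g * x * g⁻¹ ∈ M ⊓ centralizer {s} := ⟨hM.conj_mem x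
        (le (hy.zpowers_le (zpowers_le.2 (pow_mem (mem_zpowers y) 2) hx)).1).1 g,
        mem_centralizer_singleton_iff.2 (k1 s h.sS).symm⟩
      have k3 : (g * x * g⁻¹) ^ (m + 1) * (g * x * g⁻¹) ^ (m + 1) = g * x * g⁻¹ := by
        rw [← pow_add, show m + 1 + (m + 1) = r + 1 by omega, pow_succ, conj_pow, Rr x hx]
        group
      have k4 : g * x * g⁻¹ ∈ L := k3 ▸ (xb_L ss inf_le_right le dec (pow_mem k2 _)).1
      rw [← k3]
      obtain ⟨i, e | e⟩ := (hy.mem _).1 (pow_mem (show g * x * g⁻¹ ∈ L ⊓ centralizer {u} from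
        ⟨k4, mem_centralizer_singleton_iff.2 (k1 u uS).symm⟩) (m + 1)) <;> rw [e]
      · exact ⟨i, by simp only [pow_two, (Commute.refl y).mul_zpow]⟩
      · rw [hy.rpows_sq]
        exact one_mem _
    · obtain ⟨i, rfl⟩ := hx
      obtain ⟨j, rfl⟩ := hz
      exact zpow_mul_comm _ i j
    · rw [zpowers_eq_bot.1 k, orderOf_one] at oy
      omega
    · have k1 := h.sab.elem x (h.sab.cent.le ⟨⟨k a aS, k b bS⟩, RC hx⟩)
      have k2 := Rr x hx
      rwa [hm, pow_succ, pow_mul, pow_two, k1, one_pow, one_mul] at k2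
  let D : Set G := {v | v ∈ centralizer ({s} : Set G) ∧ v * v = 1 ∧ v ≠ 1 ∧ v ≠ s}
  have hinv : ∀ g ∈ centralizer ({s} : Set G), ∀ v ∈ D, g * v * g⁻¹ ∈ D := fun g hg v ⟨k1, k2, k3, k4⟩ =>
    ⟨mul_mem (mul_mem hg k1) (inv_mem hg), by rw [conj_mul, k2, mul_one, mul_inv_cancel],
      fun e => k3 (conj_eq_one_iff.1 e), fun e => k4 (by
        rw [mul_inv_eq_iff_eq_mul, ← cs hg] at e
        exact mul_left_cancel e)⟩
  have tC := h.tC h.sD h.os
  have fu : ∀ v ∈ L, orderOf v = 2 → (fixedBy Ω v ∩ fixedBy Ω s).ncard = r := fun v hv ov => by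
    obtain ⟨g, hg, rfl⟩ := hL.one u uL v hv ou ov
    rw [← f0, ← Set.ncard_smul_set g (Fx Ω S)]
    congr 1
    ext x
    obtain ⟨x, rfl⟩ := (MulAction.toPerm g).surjective x
    simp only [toPerm_apply, Set.smul_mem_smul_set_iff, Set.mem_inter_iff, tC.inv_iff (le hg).2]
    simp only [mem_fixedBy, conj_smul_iff]
    refine ⟨fun k z hz => ?_, fun k => ⟨k u uS, k s h.sS⟩⟩
    rcases (mS z).1 hz with rfl | rfl | rfl | rfl
    exacts [one_smul _ _, k.2, k.1, by rw [mul_smul, k.1, k.2]]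
  have hf : ∀ v ∈ D, (fixedBy Ω v ∩ fixedBy Ω s).ncard = r := fun v ⟨k1, k2, k3, k4⟩ => by
    rcases dec v ⟨iM v k2, k1⟩ with k | k
    · exact fu v k (bas_ord k2 k3)
    rw [← fu _ k (bas_ord ((sq k1).trans k2) (n1 k4))]
    congr 1
    ext x
    refine and_congr_left fun e => ?_
    rw [mem_fixedBy, mem_fixedBy, ← cs k1, mul_smul, show s • x = x from e]
  have c1 := tC.cnt_two hinv hf h.sD.1 h.sD.2 h.ne
  have c2 := tC.cnt_sw hinv (fun _ k => k.1) (fun v k x _ => by rw [← mul_smul, k.2.1, one_smul]) hf h.sD.1 h.sD.2 h.ne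
  have c3 := (hD.card_cent h.sD h.os).2
  have c4 : (f2 D a b).ncard = 2 * r0 := by
    have : {x | x ∈ stab2 G a b ⊓ centralizer ({s} : Set G) ∧ x * x = 1} = insert 1 (insert s (f2 D a b)) := by
      ext x
      refine ⟨fun k => ?_, ?_⟩
      · by_cases k1 : x = 1
        · exact .inl k1
        by_cases k2 : x = s
        exacts [.inr (.inl k2), .inr (.inr ⟨⟨k.1.2, k.2, k1, k2⟩, k.1.1⟩)]
      · rintro (rfl | rfl | k)
        exacts [⟨one_mem _, one_mul _⟩, ⟨⟨h.sD, SC h.sS⟩, ss⟩, ⟨⟨k.2, k.1.1⟩, k.1.2.1⟩]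
    rw [this, Set.ncard_insert_of_notMem (by rintro (k | k); exacts [s1 k.symm, k.1.2.2.1 rfl]),
      Set.ncard_insert_of_notMem fun k => k.1.2.2.2 rfl] at c3
    omega
  have tC' : t ∈ centralizer ({s} : Set G) := mem_centralizer_singleton_iff.2 (h.tc s h.sD)
  have st : ∀ d ∈ stab2 G a b, d * t * (d * t) = d * d := fun d hd => by
    rw [mul_assoc, ← mul_assoc t, h.tc d hd, mul_assoc, h.tt, mul_one]
  have c5 : (sw D a b).ncard = 2 * r0 + 2 := by
    refine (congrArg _ (Set.ext fun x => ⟨?_, ?_⟩)).trans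
      ((Set.ncard_image_of_injective _ (mul_left_injective t)).trans c3)
    · rintro ⟨k, ka, kb⟩
      obtain ⟨d, hd, rfl⟩ := h.sw_eq ka kb
      exact ⟨d, ⟨⟨hd, (mul_mem_cancel_right tC').1 k.1⟩, (st d hd).symm.trans k.2.1⟩, rfl⟩
    · rintro ⟨d, ⟨⟨hd, k1⟩, k2⟩, rfl⟩
      have ka : (d * t) • a = b := by rw [mul_smul, h.ta, hd.2]
      exact ⟨⟨mul_mem k1 tC', (st d hd).trans k2, fun e => h.ne ((one_smul G a).symm.trans (e ▸ ka)),
        fun e => h.ne (h.sD.1.symm.trans (e ▸ ka))⟩, ka, by rw [mul_smul, h.tb, hd.1]⟩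
  have c6 : D.ncard = 2 * {x | x ∈ L ∧ orderOf x = 2}.ncard := by
    have : D = {x | x ∈ L ∧ orderOf x = 2} ∪ (s * ·) '' {x | x ∈ L ∧ orderOf x = 2} := by
      ext x
      constructor
      · rintro ⟨k1, k2, k3, k4⟩
        exact (dec x ⟨iM x k2, k1⟩).imp (fun k => ⟨k, bas_ord k2 k3⟩) fun k =>
          ⟨_, ⟨k, bas_ord ((sq k1).trans k2) (n1 k4)⟩, by simp only [← mul_assoc, ss, one_mul]⟩
      · rintro (⟨k1, k2⟩ | ⟨x, ⟨k1, k2⟩, rfl⟩)
        · exact ⟨(le k1).2, bas_sq k2, bas_ne k2, fun e => sL (e ▸ k1)⟩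
        · exact ⟨mul_mem (SC h.sS) (le k1).2, (sq (le k1).2).trans (bas_sq k2), n1 fun e => sL (e ▸ k1),
            ns (bas_ne k2)⟩
    rw [this, Set.ncard_union_eq (Set.disjoint_left.2 (by
      rintro _ k ⟨x, k', rfl⟩
      exact sL ((mul_mem_cancel_right k'.1).1 k.1))), Set.ncard_image_of_injective _ (mul_right_injective s), two_mul]
  have c7 : D.ncard * (4 * r) = (q + 1) * q * (q - 1) := by rw [← hL.card, ← hL.card_inv, c6]; ring
  rw [c4] at c1
  rw [c5] at c2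
  push_cast at c1 c2
  have hr : (r0 : ℤ) = 3 ∨ (r0 : ℤ) = 5 ∨ (7 : ℤ) ≤ r0 := by
    obtain ⟨m, hm⟩ := hD.odd
    omega
  have q1 : 1 ≤ q := le_trans (by norm_num) hL.five_le
  zify [q1] at c7
  have r4 : (4 * r : ℤ) ≠ 0 := by omega
  rcases hL.num with e | e
  · refine xb_num (.inr rfl) (by omega) hr (mul_right_cancel₀ r4 ?_) c1 c2
    rw [c7, show (q : ℤ) = 4 * r - 1 by omega]
    ring
  · refine xb_num (.inl rfl) (by omega) hr (mul_right_cancel₀ r4 ?_) c1 c2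
    rw [c7, show (q : ℤ) = 4 * r + 1 by omega]
    ring

theorem XH.caseB (h : XH a b S s t) (h1 : IsConj s t) (h2 : IsConj s (s * t)) : False := by
  have := Fact.mk Nat.prime_two
  have al : ∀ x : G, x * x = 1 → x ≠ 1 → IsConj s x := fun x k k1 => (h.inv k k1).elim h1.trans h2.trans
  have ex : ∀ (k : ℕ) (x : G), x ^ 2 ^ k = 1 → x * x = 1 := by
    intro k
    induction k with
    | zero => exact fun x e => by rw [← pow_one x, show x ^ 1 = 1 from e, one_mul]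
    | succ k ih =>
      exact fun x e => by_contra fun m => h.nosq x (al _ (ih _ (by rw [← pow_two, ← pow_mul, ← pow_succ', e])) m)
  obtain ⟨M, hM, M1, -, hs, hn⟩ := exists_simple h.h2 h.hn (M := ⊤) inferInstance fun k =>
    bas_ne h.os (mem_bot.1 (k.le (mem_top s)))
  have DM := h.le_normal hM M1
  have iM : ∀ x, x * x = 1 → x ∈ M := fun x k => by
    by_cases k1 : x = 1
    · exact k1 ▸ one_mem M
    obtain ⟨g, rfl⟩ := isConj_iff.1 (al x k k1)
    exact hM.conj_mem s (DM h.sD) g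
  have DC : stab2 G a b ≤ M ⊓ centralizer {t} := fun d hd => ⟨DM hd, mem_centralizer_singleton_iff.2 (h.tc d hd).symm⟩
  obtain ⟨P, hP⟩ := ((IsPGroup.of_card (n := 1) (by rw [Nat.card_zpowers, h.ot, pow_one])).to_sup_of_normal_right'
    h.sab.two ((zpowers_le.2 (mem_centralizer_iff.2 fun x hx => (h.tc x (h.sab.le hx)).symm)).trans
      (centralizer_le_normalizer _))).exists_le_sylow
  have tP : t ∈ (P : Subgroup G) := hP (mem_sup_left (mem_zpowers t))
  have SP : S < P := (le_sup_right.trans hP).lt_of_ne fun e => h.ne ((h.sab.le (e.ge tP)).1.symm.trans h.ta)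
  have P2 : ∀ x ∈ (P : Subgroup G), x * x = 1 := fun x hx =>
    let ⟨k, e⟩ := P.isPGroup' ⟨x, hx⟩
    ex k x (congrArg Subtype.val e)
  have PM : (P : Subgroup G) ≤ M := fun x hx => iM x (P2 x hx)
  have lt : Nat.card S < Nat.card P := (card_le_of_le SP.le).lt_of_ne fun e => SP.ne (eq_of_le_of_card_ge SP.le e.ge)
  have h4 := h.sab.four_le
  obtain ⟨-, ⟨k, hE⟩ | ⟨r, q, e, -⟩ | ⟨r, q, hJ⟩⟩ := ty_of hs hn PM P.isPGroup' (Nat.not_even_iff_odd.1 fun k =>
    P.not_dvd_index (k.two_dvd.trans (relIndex_dvd_index_of_le PM))) (xb_comm P2)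
  · have k := DC.trans (hE.cent t tP (bas_ne h.ot)).le
    exact h.sab.ncomm ⟨⟨fun x y => Subtype.ext (xb_comm P2 _ (k x.2) _ (k y.2))⟩⟩
  · omega
  have c4 : Nat.card S = 4 := by
    have k := card_dvd_of_le SP.le
    rw [hJ.cardS] at k lt
    generalize Nat.card S = n at *
    interval_cases n <;> omega
  obtain ⟨k, hE⟩ | ⟨r0, q0, h3, -, hD⟩ | ⟨_, _, hJ'⟩ := h.ty
  · have := Nat.pow_le_pow_right two_pos hE.three_le
    have := hE.cardS
    omega
  swap
  · have := hJ'.cardS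
    omega
  obtain ⟨L, hL, le, -, dec⟩ := hJ.loc t (iM t h.tt) h.ot
  obtain ⟨L', hL', le', sL, dec'⟩ := hJ.loc s (DM h.sD) h.os
  refine h.xb_J hM iM ?_ h3 c4 hD hL' le' sL dec'
  obtain ⟨g, hg, g1⟩ : ∃ g ∈ stab2 G a b, g * g ≠ 1 := by
    by_contra! k
    exact h.sab.ncomm ⟨⟨fun x y => Subtype.ext (xb_comm k _ x.2 _ y.2)⟩⟩
  have k1 := card_le_of_le (h.sab.le_of_normal (fun d hd => (xb_L h.tt inf_le_right le dec (DC hd)).2)
    (xb_L h.tt inf_le_right le dec (DC hg)).1 (mul_mem hg hg) g1)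
  have k2 := hL.num
  rcases hJ.card with ⟨rfl, -⟩ | ⟨m, hm, e, -⟩
  · have k3 := hL.card
    have k4 := hD.card
    have k5 := hD.num
    have k6 : 12 * 11 * 10 ≤ (q0 + 1) * q0 * (q0 - 1) := by gcongr <;> omega
    omega
  · have := Nat.pow_le_pow_right (n := 3) (by norm_num) (show 3 ≤ 2 * m + 1 by omega)
    omega

end CfsgLib.TPS
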