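import Cfsg.Agent.Lib.TPS.X0

/-! Package XC2.  See `plans/TPS.md`. -/

set_option autoImplicit false
set_option linter.unusedSectionVars false

namespace CfsgLib.TPS

open Subgroup MulAction CfsgLib.Perm CfsgLib.Kim CfsgLib.DihSyl

variable {G : Type*} [Group G] [Finite G] {Ω : Type*} [Finite Ω] [MulAction G Ω]
  [FaithfulSMul G Ω] {a b : Ω} {S : Subgroup G} {s t : G}

theorem xc2_conj {k : G} (hk : k ∈ centralizer ({s} : Set G)) (g : G) :
    (fixedBy Ω (k * g * k⁻¹) ∩ fixedBy Ω s).ncard = (fixedBy Ω g ∩ fixedBy Ω s).ncard := by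
  have ks : k * s * k⁻¹ = s := mul_inv_eq_iff_eq_mul.2 (mem_centralizer_singleton_iff.1 hk)
  rw [← Set.ncard_image_of_injective (fixedBy Ω g ∩ fixedBy Ω s) (MulAction.injective k)]
  congr 1
  ext x
  obtain ⟨y, rfl⟩ := MulAction.surjective k x
  rw [(MulAction.injective k).mem_set_image]
  refine and_congr (conj_smul_iff k g y y) ?_
  conv_lhs => rw [← ks]
  exact conj_smul_iff k s y y

theorem xc2_mul (g : G) : fixedBy Ω (s * g) ∩ fixedBy Ω s = fixedBy Ω g ∩ fixedBy Ω s := by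
  ext x
  refine and_congr_left fun (hx : s • x = x) => ?_
  change (s * g) • x = x ↔ g • x = x
  rw [mul_smul]
  conv_lhs => rhs; rw [← hx]
  exact smul_left_cancel_iff s

theorem XH.xc2_pow (h : XH a b S s t) (hn : ¬ IsConj s t) (he : Even (Nat.card Ω)) (h4 : Nat.card S = 4) :
    ∃ j, (Fx Ω S).ncard = 2 ^ j := by
  have s1 := bas_ne h.os
  obtain ⟨v, hv, v1, vs⟩ := h.sab.exists_ne s
  have four : ∀ {x}, x ∈ S ↔ x = 1 ∨ x = s ∨ x = v ∨ x = s * v := h.sab.four h4 h.sS hv s1 v1 vs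
  have T := h.tNC h.sS h.os
  obtain ⟨⟨p, j, pp, e⟩, -⟩ := sharp T (fun w hw => (h.sab.le hw).1) (fun w hw => (h.sab.le hw).2) h.ne
    fun g hg ga gb x hx => by
      have gs : g * s * g⁻¹ = s := mul_inv_eq_iff_eq_mul.2 (mem_centralizer_singleton_iff.1 hg.1)
      refine hx g (h.sab.mem_of_sq ⟨ga, gb⟩ hg.2 (h.sab.cent.le ⟨mul_mem (S := Subgroup G) (s := stab2 G a b) ⟨ga, gb⟩ ⟨ga, gb⟩, ?_⟩))
      have k2 : g * (g * v * g⁻¹) * g⁻¹ = v := by
        rcases four.1 (Tech.conj_mem_of_mem_normalizer hg.2 hv) with k | k | k | k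
        · exact absurd (by simpa using k) v1
        · rw [← gs] at k
          exact absurd (by simpa using k) vs
        · rw [k, k]
        · rw [k, ← conj_mul, k, gs, ← mul_assoc, bas_sq h.os, one_mul]
      have k3 : g * g * v = v * (g * g) := by
        conv_rhs => rw [← k2]
        group
      have k4 : g * g * s = s * (g * g) := mem_centralizer_singleton_iff.1 (mul_mem hg.1 hg.1)
      refine mem_centralizer_iff.2 fun w hw => ?_
      rcases four.1 hw with rfl | rfl | rfl | rfl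
      · simp
      · exact k4.symm
      · exact k3.symm
      · rw [← mul_assoc (g * g), k4, mul_assoc, ← k3, mul_assoc, mul_assoc, mul_assoc]
  have tm : t ∈ centralizer ({s} : Set G) ⊓ normalizer (S : Set G) :=
    ⟨mem_centralizer_singleton_iff.2 (h.tc s h.sD), Tech.mem_normalizer_of_forall fun x hx => by
      rwa [h.tc x (h.sab.le hx), mul_inv_cancel_right]⟩
  have ev : Even (Fx Ω S).ncard := by
    by_contra k
    obtain ⟨x, -, k⟩ := exists_fix_of_odd (T.inv t tm) (fun x _ => by rw [← mul_smul, h.tt, one_smul])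
      (Nat.not_even_iff_odd.1 k)
    exact h.fpf hn he (IsConj.refl t) x k
  rw [e] at ev
  exact ⟨j, by rw [e, (Nat.Prime.even_iff pp).1 (Nat.even_pow.1 ev).1]⟩

theorem XH.caseC_four (h : XH a b S s t) (hn : ¬ IsConj s t) (he : Even (Nat.card Ω)) (h4 : Nat.card S = 4) : False := by
  have := Fact.mk Nat.prime_two
  have s1 := bas_ne h.os
  obtain ⟨j, hj⟩ := h.xc2_pow hn he h4
  obtain ⟨v, hv, v1, vs⟩ := h.sab.exists_ne s
  have four : ∀ {x}, x ∈ S ↔ x = 1 ∨ x = s ∨ x = v ∨ x = s * v := h.sab.four h4 h.sS hv s1 v1 vs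
  have tC := h.tC h.sD h.os
  have aF : a ∈ fixedBy Ω s := h.sD.1
  have bF : b ∈ fixedBy Ω s := h.sD.2
  have SC : S ≤ centralizer ({s} : Set G) := fun w hw => mem_centralizer_singleton_iff.2 (h.sab.comm hw h.sS)
  have tm : t ∈ centralizer ({s} : Set G) := mem_centralizer_singleton_iff.2 (h.tc s h.sD)
  have f0 : (fixedBy Ω v ∩ fixedBy Ω s).ncard = 2 ^ j := by
    rw [← hj]
    congr 1
    ext x
    refine ⟨fun k w hw => ?_, fun k => ⟨k v hv, k s h.sS⟩⟩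
    have k1 : v • x = x := k.1
    have k2 : s • x = x := k.2
    rcases four.1 hw with rfl | rfl | rfl | rfl
    · exact one_smul _ _
    · exact k2
    · exact k1
    · rw [mul_smul, k1, k2]
  have syl : Tech.IsSylowIn 2 S (stab2 G a b ⊓ centralizer ({s} : Set G)) :=
    h.sab.syl.of_le (le_inf h.sab.le SC) inf_le_left
  have key : ∀ y ∈ stab2 G a b ⊓ centralizer ({s} : Set G), orderOf y = 2 → y ≠ s → ∀ e : G,
      (∀ d ∈ stab2 G a b, e * d = d * e) →
      (fixedBy Ω (y * e) ∩ fixedBy Ω s).ncard = (fixedBy Ω (v * e) ∩ fixedBy Ω s).ncard := fun y hy oy ys e hc => by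
    obtain ⟨k, hk, h1⟩ := syl.exists_conj_mem hy (Tech.isPGroup_zpowers_iff.2 ⟨1, oy⟩)
    have ks : k * s * k⁻¹ = s := mul_inv_eq_iff_eq_mul.2 (mem_centralizer_singleton_iff.1 hk.2)
    rw [← xc2_conj hk.2, ← conj_mul, ← hc k hk.1, mul_inv_cancel_right]
    rcases four.1 h1 with k | k | k | k
    · exact absurd (by simpa using k) (bas_ne oy)
    · rw [← ks] at k
      exact absurd (by simpa using k) ys
    · rw [k]
    · rw [k, mul_assoc, xc2_mul]
  have key1 : ∀ y ∈ stab2 G a b ⊓ centralizer ({s} : Set G), orderOf y = 2 → y ≠ s →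
      (fixedBy Ω y ∩ fixedBy Ω s).ncard = 2 ^ j := fun y hy oy ys => by
    simpa [f0] using key y hy oy ys 1 (by simp)
  have two : 2 ≤ 2 ^ j := by
    rw [← f0]
    exact (Set.one_lt_ncard (Set.toFinite _)).2 ⟨a, ⟨(h.sab.le hv).1, aF⟩, b, ⟨(h.sab.le hv).2, bF⟩, h.ne⟩
  have fin : ∀ k, (fixedBy Ω s).ncard = 2 ^ k → False := fun k hk => by
    have := mem_pCore_of_sharp (k := k * 2) (by rw [h.card_sq hn, hk, pow_mul]) h.tt
      fun s' hx c e => h.uniq hn hx (IsConj.refl t) e (h.fpf hn he hx c)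
    rw [pCore_eq_bot h.h2 h.hn 2, mem_bot] at this
    exact bas_ne h.ot this
  have le : 2 ^ j ≤ (fixedBy Ω s).ncard := f0 ▸ Set.ncard_le_ncard Set.inter_subset_right
  rcases le.eq_or_lt with e | lt
  · exact fin j e.symm
  set 𝒟 : Set G := {w | w ∈ centralizer ({s} : Set G) ∧ w * w = 1 ∧ 2 ≤ (fixedBy Ω w ∩ fixedBy Ω s).ncard ∧
    (fixedBy Ω w ∩ fixedBy Ω s).ncard < (fixedBy Ω s).ncard} with hD
  have inv : ∀ g ∈ centralizer ({s} : Set G), ∀ w ∈ 𝒟, g * w * g⁻¹ ∈ 𝒟 := fun g hg w hw =>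
    ⟨mul_mem (mul_mem hg hw.1) (inv_mem hg), by rw [conj_mul, hw.2.1, mul_one, mul_inv_cancel],
      by rw [xc2_conj hg]; exact hw.2.2⟩
  have n1 : ∀ w ∈ 𝒟, orderOf w = 2 ∧ w ≠ s := fun w hw =>
    ⟨bas_ord hw.2.1 fun e => by simpa [e] using hw.2.2.2, fun e => by simpa [e] using hw.2.2.2⟩
  have cf : ∀ w ∈ 𝒟, (fixedBy Ω w ∩ fixedBy Ω s).ncard = 2 ^ j := fun w hw => by
    obtain ⟨x, hx, y, hy, ne⟩ := (Set.one_lt_ncard (Set.toFinite _)).1 hw.2.2.1
    obtain ⟨g, hg, ga, gb⟩ := tC.two hx.2 hy.2 aF bF ne h.ne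
    have k := inv g hg w hw
    rw [← xc2_conj hg]
    refine key1 _ ⟨⟨?_, ?_⟩, k.1⟩ (n1 _ k).1 (n1 _ k).2
    · rw [← ga]; exact (conj_smul_iff g w x x).2 hx.1
    · rw [← gb]; exact (conj_smul_iff g w y y).2 hy.1
  have vD : v ∈ 𝒟 := ⟨SC hv, h.sab.elem v hv, by rw [f0]; exact ⟨two, lt⟩⟩
  have c2 := tC.cnt_two inv cf aF bF h.ne
  have c3 := tC.cnt_sw inv (fun w hw => hw.1) (fun w hw x _ => by rw [← mul_smul, hw.2.1, one_smul]) cf aF bF h.ne
  have pos : 0 < 𝒟.ncard := (Set.ncard_pos (Set.toFinite _)).2 ⟨v, vD⟩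
  have t0 : fixedBy Ω t ∩ fixedBy Ω s = ∅ :=
    Set.eq_empty_of_forall_notMem fun x hx => h.fpf hn he (IsConj.refl t) x hx.1
  have dec : ∀ w ∈ sw 𝒟 a b, ∃ d ∈ stab2 G a b ⊓ centralizer ({s} : Set G), orderOf d = 2 ∧ d ≠ s ∧ w = d * t :=
    fun w hw => by
      have k := hw.1.2.2.1
      rcases h.sw_inv hw.1.2.1 hw.2.1 hw.2.2 with rfl | ⟨d, hd, od, rfl⟩
      · simp [t0] at k
      · refine ⟨d, ⟨hd, (mul_mem_cancel_right tm).1 hw.1.1⟩, od, ?_, rfl⟩
        rintro rfl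
        simp [xc2_mul, t0] at k
  have ne : (sw 𝒟 a b).Nonempty := by
    by_contra k
    rw [Set.not_nonempty_iff_eq_empty.1 k, Set.ncard_empty, Nat.cast_zero, mul_zero, mul_eq_zero] at c3
    rcases c3 with k | k <;> omega
  obtain ⟨w, hw⟩ := ne
  obtain ⟨d, hd, od, ds, rfl⟩ := dec w hw
  have eq : sw 𝒟 a b = (· * t) '' f2 𝒟 a b := by
    ext w
    constructor
    · intro hw
      obtain ⟨d, hd, od, ds, rfl⟩ := dec w hw
      exact ⟨d, ⟨⟨hd.2, bas_sq od, by rw [key1 d hd od ds]; exact ⟨two, lt⟩⟩, hd.1⟩, rfl⟩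
    · rintro ⟨y, ⟨hy, yD⟩, rfl⟩
      refine ⟨⟨mul_mem hy.1 tm, (h.x0_sq yD).trans hy.2.1, ?_⟩, ?_, ?_⟩
      · rw [key y ⟨yD, hy.1⟩ (n1 y hy).1 (n1 y hy).2 t h.tc, ← key d hd od ds t h.tc]
        exact hw.1.2.2
      · change (y * t) • a = b
        rw [mul_smul, h.ta, yD.2]
      · change (y * t) • b = a
        rw [mul_smul, h.tb, yD.1]
  rw [eq, Set.ncard_image_of_injective _ (mul_left_injective t), ← c2] at c3
  have c4 := mul_left_cancel₀ (by exact_mod_cast pos.ne') c3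
  refine fin (j * 2) ?_
  rw [pow_mul]
  have c5 : ((fixedBy Ω s).ncard : ℤ) = ((2 ^ j : ℕ) : ℤ) ^ 2 := by linear_combination c4
  exact_mod_cast c5

end CfsgLib.TPS
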