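import Cfsg.Agent.Lib.TPS.X0
import Cfsg.Agent.Lib.TPS.XC3a
import Cfsg.Agent.Lib.TPS.Soc
import Cfsg.Agent.Lib.Fgs.Rank3
import Cfsg.Agent.Lib.FT.OddOrder
import Cfsg.Agent.Lib.PLocal.Constrained

/-! Package XC3.  See `plans/TPS-X.md`. -/

set_option autoImplicit false
set_option linter.unusedSectionVars false

namespace CfsgLib.TPS

open Subgroup MulAction CfsgLib.Perm CfsgLib.Kim CfsgLib.DihSyl

variable {G : Type*} [Group G] [Finite G] {Ω : Type*} [Finite Ω] [MulAction G Ω]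
  [FaithfulSMul G Ω] {a b : Ω} {S : Subgroup G} {s t : G}

theorem xc3_card_map {A Y : Type*} [Group A] [Group Y] (f : A →* Y) {K X : Subgroup A} (h : X ≤ K)
    (hK : K ⊓ f.ker = ⊥) : Nat.card (X.map f) = Nat.card X := by
  rw [← ncard_coe, ← ncard_coe, coe_map, Set.InjOn.ncard_image fun x hx y hy e => ?_]
  have : x⁻¹ * y ∈ K ⊓ f.ker := ⟨h (X.mul_mem (X.inv_mem hx) hy), by simp [e]⟩
  rwa [hK, mem_bot, inv_mul_eq_one] at this

theorem xc3_cz {A : Type*} [Group A] (x : A) : centralizer (zpowers x : Set A) = centralizer {x} := by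
  rw [zpowers_eq_closure, centralizer_closure]

/-- a prime divisor of `|O|` divides the order of the centraliser of an involution -/
theorem xc3_prime {A : Type*} [Group A] [Finite A] {O B : Subgroup A} [O.Normal] (ho : Odd (Nat.card O))
    (h2 : IsPGroup 2 B) (hB : ∀ x ∈ B, x * x = 1) (h4 : 4 ≤ Nat.card B) {p : ℕ} (hp : p.Prime)
    (hd : p ∣ Nat.card O) : ∃ x ∈ B, x ≠ 1 ∧ p ∣ Nat.card ↥(O ⊓ centralizer ({x} : Set A)) := by
  classical
  have := Fintype.ofFinite B
  obtain ⟨k, hk⟩ := IsPGroup.iff_card.1 h2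
  have h1 := Fgs.wielandt_exponent (B := B) (H := O) Nat.prime_two (fun x hx => by rw [pow_two, hB x hx])
    (by rw [normalizer_eq_top]; exact le_top) (FT.odd_order_solvable ho)
    (hk ▸ (Nat.coprime_two_right.2 ho).pow_right k)
  obtain ⟨l, hl⟩ : ∃ l, Nat.card B = l + 1 + 2 := ⟨Nat.card B - 3, by omega⟩
  rw [hl, pow_add (Nat.card O) (l + 1) 2, ← mul_assoc] at h1
  have h3 := Nat.eq_of_mul_eq_mul_right (pow_pos Nat.card_pos 2) h1
  obtain ⟨x, hx, e⟩ := (hp.prime.dvd_finsetProd_iff _).1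
    (h3 ▸ (dvd_pow hd (Nat.succ_ne_zero l)).mul_left _)
  exact ⟨x, x.2, fun k => (Finset.mem_erase.1 hx).1 (Subtype.ext k), hp.dvd_of_dvd_pow e⟩

theorem XH.caseC_big (h : XH a b S s t) (hn : ¬ IsConj s t) (he : Even (Nat.card Ω))
    (ht : (∃ k, TyE (stab2 G a b) S k) ∨ ∃ r q, TyJ (stab2 G a b) S r q) : False := by
  have dat := xc3_dat h.sab ht h.sS h.os
  have hd := h.sab.card_inv h.sD h.os
  have hsq := h.card_sq hn
  obtain ⟨j, hj⟩ : ∃ j, (fixedBy Ω s).ncard = j + 1 := ⟨_, (Nat.sub_add_cancel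
    (one_le_two.trans (h.two_le h.sD))).symm⟩
  have jodd : Odd j := by
    rw [hsq, hj, Nat.even_pow, Nat.even_add_one, Nat.not_even_iff_odd] at he
    exact he.1
  have hH := (tt_top h.h2).card_stab (a := a) trivial trivial h.ne
  have hC := (h.tC h.sD h.os).card_stab h.sD.1 h.sD.2 h.ne
  rw [top_inf_eq, top_inf_eq, Set.ncard_univ, hsq, hj] at hH
  rw [hj, inf_comm _ (stab2 G a b)] at hC
  push_cast at hH hC
  set H := stabilizer G a
  set D := stab2 G a b
  set d := {x | x ∈ D ∧ orderOf x = 2}.ncard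
  set c := Nat.card ↥(D ⊓ centralizer ({s} : Set G))
  have hH' : Nat.card H = j * (j + 2) * Nat.card D := by zify; linear_combination hH
  have hDH : D ≤ H := inf_le_left
  have hSH : S ≤ H := h.sab.le.trans hDH
  have e := subgroupOfEquivOfLe hDH
  have cK : Nat.card (D.subgroupOf H) = Nat.card D := Nat.card_congr e.toEquiv
  have cS : Nat.card (S.subgroupOf H) = Nat.card S := Nat.card_congr (subgroupOfEquivOfLe hSH).toEquiv
  have hi : Odd (D.subgroupOf H).index := by
    have h1 := (D.subgroupOf H).index_mul_card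
    rw [cK, hH'] at h1
    rw [Nat.eq_of_mul_eq_mul_right Nat.card_pos h1]
    exact jodd.mul (jodd.add_even even_two)
  have := h.sab.simple
  obtain ⟨hO, M, hM, hMs, hMc, hKM⟩ := soc (K := D.subgroupOf H) e.isSimpleGroup
    (fun k => h.sab.ncomm ⟨⟨fun x y => e.symm.injective (by
      rw [map_mul, map_mul, k.is_comm.comm])⟩⟩) hi
  set O := Cfsg.pPrimeCore 2 H
  set f := QuotientGroup.mk' O
  have oO : Odd (Nat.card O) := Core.odd_card_oddCore H
  have hker : D.subgroupOf H ⊓ f.ker = ⊥ := by rwa [QuotientGroup.ker_mk']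
  have hSK : S.subgroupOf H ≤ D.subgroupOf H := comap_mono h.sab.le
  have cS' := (xc3_card_map f hSK hker).trans cS
  have cK' := (xc3_card_map f le_rfl hker).trans cK
  have hY := card_eq_card_quotient_mul_card_subgroup O
  have two : IsPGroup 2 (S.subgroupOf H) := h.sab.two.comap_subtype
  have hSM := (map_mono (f := f) hSK).trans hKM
  obtain ⟨sab, ty⟩ := ty_of hMs hMc hSM (two.map f) (by
    have h1 := Tech.card_mul_relIndex' hSM
    have h2 := Tech.card_mul_relIndex' h.sab.le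
    have h3 : Nat.card M ∣ Nat.card H := (card_subgroup_dvd_card M).trans ⟨_, hY⟩
    rw [← h1, cS', hH', ← h2, mul_left_comm] at h3
    exact ((jodd.mul (jodd.add_even even_two)).mul h.sab.odd).of_dvd_nat
      (Nat.dvd_of_mul_dvd_mul_left Nat.card_pos h3)) (by
    rintro _ ⟨x, hx, rfl⟩ _ ⟨y, hy, rfl⟩
    rw [← map_mul, ← map_mul, show x * y = y * x from Subtype.ext (h.sab.comm hx hy)])
  let s' : H := ⟨s, hSH h.sS⟩
  have hs' : f s' ∈ (S.subgroupOf H).map f := ⟨s', h.sS, rfl⟩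
  have os' : orderOf (f s') = 2 := sab.ord hs' fun k => by
    have : s' ∈ D.subgroupOf H ⊓ f.ker := ⟨h.sD, k⟩
    rw [hker, mem_bot] at this
    exact bas_ne h.os (congrArg Subtype.val this)
  have dat' := xc3_dat sab (ty.imp_right fun k => k.resolve_left (by
    rintro ⟨_, _, h4, -⟩
    rw [cS'] at h4
    rcases dat with ⟨k, h3, h5, -⟩ | ⟨h5, -⟩ | ⟨h5, -⟩
    · have : 2 ^ 3 ≤ 2 ^ k := Nat.pow_le_pow_right two_pos h3
      omega
    all_goals omega)) hs' os'
  rw [cS'] at dat'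
  have hd' := sab.card_inv (hSM hs') os'
  set d' := {x | x ∈ M ∧ orderOf x = 2}.ncard
  have cH : Nat.card (centralizer ({s'} : Set H)) = j * c := by
    have : centralizer ({s'} : Set H) = (centralizer ({s} : Set G) ⊓ H).subgroupOf H := by
      ext x
      simp [mem_centralizer_singleton_iff, mem_subgroupOf, s', Subtype.ext_iff]
    rw [this, Nat.card_congr (subgroupOfEquivOfLe inf_le_right).toEquiv]
    zify
    linear_combination hC
  have c0 : 0 < c := Nat.card_pos
  have j0 : 0 < j := jodd.pos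
  have hmap : (centralizer ({s'} : Set H)).map f = centralizer {f s'} := by
    rw [← xc3_cz, ← xc3_cz, ← MonoidHom.map_zpowers]
    exact PLocal.Constr.map_centralizer_of_coprime_ker (p := 2) (QuotientGroup.mk'_surjective O)
      (by rw [QuotientGroup.ker_mk']; exact Nat.coprime_two_right.2 oO)
      (Tech.isPGroup_zpowers_of_mem two h.sS)
  have i1 : (centralizer ({f s'} : Set (H ⧸ O))).index = d' := by
    have h1 := bas_orb ⊤ (f s')
    rw [top_inf_eq, card_top, ← (centralizer ({f s'} : Set (H ⧸ O))).index_mul_card] at h1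
    rw [← Nat.eq_of_mul_eq_mul_right Nat.card_pos h1]
    congr 1
    ext x
    refine ⟨?_, fun hx => (sab.one _ (hSM hs') x hx.1 os' hx.2).imp fun g k => ⟨trivial, k.2⟩⟩
    rintro ⟨g, -, rfl⟩
    exact ⟨hM.conj_mem _ (hSM hs') g, (bas_ord_conj _ _).trans os'⟩
  have i2 : (centralizer ({s'} : Set H)).index = d * (j + 2) := by
    have h1 := (centralizer ({s'} : Set H)).index_mul_card
    rw [cH, hH', ← hd] at h1
    exact Nat.eq_of_mul_eq_mul_right (Nat.mul_pos j0 c0) (by linear_combination h1)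
  obtain ⟨m, hm⟩ : Nat.card (centralizer ({f s'} : Set (H ⧸ O))) ∣ j * c := by
    rw [← hmap, ← cH]
    exact card_dvd_of_surjective _ (f.subgroupMap_surjective _)
  rcases xc3_arith dat dat' (cK' ▸ card_dvd_of_le hKM) hd hd' c0 with k | ⟨k1, k2⟩
  · have h1 := (centralizer ({f s'} : Set (H ⧸ O))).index_mul_card
    have h2 := (centralizer ({s'} : Set H)).index_mul_card
    have d0 : 0 < d := Nat.pos_of_mul_pos_right (hd ▸ Nat.card_pos : 0 < d * c)
    rw [i2, cH, hm, hY, ← h1, i1, k] at h2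
    have h3 : Nat.card O = (j + 2) * m := Nat.eq_of_mul_eq_mul_left
      (Nat.mul_pos d0 (Nat.card_pos (α := centralizer ({f s'} : Set (H ⧸ O))))) (by linear_combination h2.symm)
    have hp := Nat.minFac_prime (show j + 2 ≠ 1 by omega)
    obtain ⟨x, hx, h4, h5⟩ := xc3_prime oO two (fun x hx => Subtype.ext (h.sab.elem x hx))
      (cS ▸ h.sab.four_le) hp (h3 ▸ (Nat.minFac_dvd _).mul_right m)
    have h6 := h5.trans (xc3_semi (Φ := fixedBy Ω (x : G)) (a := a) x.2
      (fun y hy c hc => smul_fix_of_comm (congrArg Subtype.val (mem_centralizer_singleton_iff.1 hy.2)) hc)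
      (fun y _ => y.2) fun y hy c _ hc e => by
        obtain ⟨g, g1, g2⟩ := h.two (Ne.symm hc)
        have : (⟨g, g1⟩ : H)⁻¹ * y * ⟨g, g1⟩⁻¹⁻¹ ∈ D.subgroupOf H ⊓ O :=
          ⟨⟨((⟨g, g1⟩ : H)⁻¹ * y * (⟨g, g1⟩ : H)⁻¹⁻¹).2, show (g⁻¹ * y * g⁻¹⁻¹) • b = b by
            rw [inv_inv, mul_smul, mul_smul, g2, show (y : G) • c = c from e, ← g2, inv_smul_smul]⟩,
            (inferInstance : O.Normal).conj_mem _ hy.1 _⟩
        rwa [hO, mem_bot, conj_eq_one_iff] at this)
    obtain ⟨g, -, g1⟩ := h.sab.one s h.sD x (h.sab.le hx) h.os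
      (h.sab.ord hx fun k => h4 (Subtype.ext k))
    rw [← g1, ncard_fixedBy_conj, hj, Nat.add_sub_cancel] at h6
    have h7 := (Nat.dvd_add_right h6).1 (Nat.minFac_dvd (j + 2))
    rw [(Nat.prime_dvd_prime_iff_eq hp Nat.prime_two).1 h7] at h6
    exact Nat.not_even_iff_odd.2 jodd (even_iff_two_dvd.2 h6)
  · have h1 := k1 (j + 2) (by
      rw [← i1, ← i2, ← hmap, ← index_comap_of_surjective _ (QuotientGroup.mk'_surjective O)]
      exact index_dvd_of_le (le_comap_map _ _))
    have h2 := k2 j (by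
      rw [mul_comm, hm]
      exact (card_dvd_of_le inf_le_right).mul_right m)
    omega

end CfsgLib.TPS
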