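import Cfsg.Agent.Lib.TPS.XA
import Cfsg.Agent.Lib.TPS.XB
import Cfsg.Agent.Lib.TPS.XC2
import Cfsg.Agent.Lib.TPS.XC3

/-! Type X.  See `plans/TPS.md`. -/

set_option autoImplicit false
set_option linter.unusedSectionVars false

namespace CfsgLib.TPS

open Subgroup MulAction CfsgLib.Perm CfsgLib.Kim CfsgLib.DihSyl

variable {G : Type*} [Group G] [Finite G] {Ω : Type*} [Finite Ω] [MulAction G Ω]
  [FaithfulSMul G Ω] {a b : Ω} {S : Subgroup G}

theorem Cx.typeX (h : Cx a b S) (hx : TX a b S) : False := by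
  obtain ⟨s, t, h⟩ := h.exists_XH hx
  by_cases h1 : IsConj s t
  · by_cases h2 : IsConj s (s * t)
    exacts [h.caseB h1 h2, h.caseA h1 h2]
  rcases Nat.even_or_odd (Nat.card Ω) with he | ho
  · rcases h.ty with k | ⟨_, _, -, k, -⟩ | k
    exacts [h.caseC_big h1 he (.inl k), h.caseC_four h1 he k, h.caseC_big h1 he (.inr k)]
  · exact h.caseC_odd h1 ho

end CfsgLib.TPS
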