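import Cfsg.Agent.Lib.TPS.YDefs
import Cfsg.Agent.Lib.SylTools.Basic

/-! S3400, package Y0: the set-up of type Y.  See `plans/TPSY.md`. -/

set_option autoImplicit false
set_option linter.unusedSectionVars false

namespace CfsgLib.TPS

open Subgroup MulAction CfsgLib.Perm CfsgLib.Kim CfsgLib.DihSyl CfsgLib.SylTools

variable {G : Type*} [Group G] [Finite G] {Ω : Type*} [Finite Ω] [MulAction G Ω]

theorem y0_half {S : Subgroup G} (sq : ∀ s ∈ S, s * s = 1) {I : G} (II : I * I = 1)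
    (norm : ∀ s ∈ S, I * s * I⁻¹ ∈ S)
    (sing : ∀ s ∈ S, s * I = I * s → ∃ r ∈ S, s = r * (I * r * I⁻¹)) :
    Nat.card ↥(S ⊓ centralizer ({I} : Set G)) ^ 2 = Nat.card S := by
  have Ii : I⁻¹ = I := inv_eq_of_mul_eq_one_right II
  have cm : ∀ {u v : G}, u ∈ S → v ∈ S → u * v = v * u := fun hu hv => Reg.comm_of_sq sq hu hv
  have := dc (Set.toFinite (S : Set G)) (Set.toFinite ((S ⊓ centralizer ({I} : Set G) : Subgroup G) : Set G))
    (fun r s => s = r * (I * r * I⁻¹)) (m := 1) (n := Nat.card ↥(S ⊓ centralizer ({I} : Set G)))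
    (fun r hr => ?_) (fun s hs => ?_)
  · rw [mul_one, ncard_coe, ncard_coe] at this
    rw [this, pow_two]
  · rw [Set.ncard_eq_one]
    refine ⟨_, Set.eq_singleton_iff_unique_mem.2 ⟨⟨⟨S.mul_mem hr (norm r hr), memC ?_⟩, rfl⟩,
      fun x hx => hx.2⟩⟩
    calc r * (I * r * I⁻¹) * I = I * (I⁻¹ * r * I) * r := by group
      _ = I * (I * r * I⁻¹ * r) := by rw [Ii, mul_assoc]
      _ = _ := by rw [cm (norm r hr) hr]
  · obtain ⟨r, hr, e⟩ := sing s hs.1 (commC hs.2)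
    rw [← ncard_coe]
    symm
    refine Set.ncard_congr (fun x _ => r * x) (fun x hx => ⟨S.mul_mem hr hx.1, ?_⟩)
      (fun _ _ _ _ e => mul_left_cancel e) (fun x hx => ⟨r⁻¹ * x, ⟨S.mul_mem (S.inv_mem hr) hx.1,
        memC ?_⟩, by group⟩)
    · have e1 : I * x * I⁻¹ = x := by rw [← commC hx.2, mul_inv_cancel_right]
      calc s = r * (x * x) * (I * r * I⁻¹) := by rw [sq x hx.1, mul_one, e]
        _ = r * x * (x * (I * r * I⁻¹)) := by group
        _ = r * x * (I * r * I⁻¹ * (I * x * I⁻¹)) := by rw [cm hx.1 (norm r hr), e1]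
        _ = _ := by group
    · have e1 : x * (I * x * I⁻¹) = r * (I * r * I⁻¹) := hx.2.symm.trans e
      have e2 : I * (r⁻¹ * x) * I⁻¹ = r⁻¹ * x := by
        calc I * (r⁻¹ * x) * I⁻¹ = (I * r * I⁻¹)⁻¹ * x⁻¹ * (x * (I * x * I⁻¹)) := by group
          _ = (I * r * I⁻¹)⁻¹ * (x⁻¹ * r * (I * r * I⁻¹)) := by rw [e1]; group
          _ = x⁻¹ * r := by rw [cm (S.mul_mem (S.inv_mem hx.1) hr) (norm r hr)]; group
          _ = r⁻¹ * x := by
            rw [inv_eq_of_mul_eq_one_right (sq x hx.1), inv_eq_of_mul_eq_one_right (sq r hr), cm hx.1 hr]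
      exact (mul_inv_eq_iff_eq_mul.1 e2).symm

omit [Finite G] [Finite Ω] in
theorem y0_sw {a b : Ω} {y u : G} (hy : y ∈ pairStab G a b) (ha : u • a = b) (hb : u • b = a) :
    (y * u * y⁻¹) • a = b ∧ (y * u * y⁻¹) • b = a := by
  rcases hy with ⟨h1, h2⟩ | ⟨h1, h2⟩
  · constructor
    · conv_lhs => rw [← h1]
      rw [conj_smul, ha, h2]
    · conv_lhs => rw [← h2]
      rw [conj_smul, hb, h1]
  · constructor
    · conv_lhs => rw [← h2]
      rw [conj_smul, hb, h1]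
    · conv_lhs => rw [← h1]
      rw [conj_smul, ha, h2]

theorem exists_YC [FaithfulSMul G Ω] {a b : Ω} {S : Subgroup G}
    (h2 : IsMultiplyPretransitive G Ω 2) (hab : a ≠ b) (h : Sab (stab2 G a b) S)
    (hx : ¬ TX a b S) : ∃ t I : G, YC a b S t I := by
  have : Fact (Nat.Prime 2) := ⟨Nat.prime_two⟩
  have cm : ∀ {u v : G}, u ∈ S → v ∈ S → u * v = v * u := fun hu hv => Reg.comm_of_sq h.elem hu hv
  have o2 : ∀ {u : G}, u * u = 1 → u ≠ 1 → orderOf u = 2 := fun e e1 => orderOf_eq_two_iff'.2 ⟨e, e1⟩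
  have hKY : stab2 G a b ≤ pairStab G a b := fun g hg => Or.inl hg
  have hodd : ¬ 2 ∣ S.relIndex (stab2 G a b) := fun e =>
    Nat.not_even_iff_odd.2 h.odd (even_iff_two_dvd.2 e)
  obtain ⟨R, hR, hSR, hRY, hRi⟩ := exists_sylow_of_le h.two (h.le.trans hKY)
  have hRK : ∀ g ∈ R, g ∈ stab2 G a b → g ∈ S := fun g h1 h3 =>
    (eq_of_le_of_not_dvd_relIndex (hR.to_le inf_le_left : IsPGroup 2 ↥(R ⊓ stab2 G a b)) inf_le_right
      (le_inf hSR h.le) hodd).ge ⟨h1, h3⟩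
  have toR : ∀ u : G, u * u = 1 → u • a = b → u • b = a → ∃ y ∈ pairStab G a b, y * u * y⁻¹ ∈ R :=
    fun u hu ha hb => by
      obtain ⟨y, hy, e⟩ := exists_conj_le_of_not_dvd_relIndex (A := zpowers u) (p := 2)
        (isPGroup_zpowers_of_orderOf (k := 1) (o2 hu fun e => hab (by rw [← ha, e, one_smul])))
        (zpowers_le.2 (Or.inr ⟨ha, hb⟩)) hR hRi
      exact ⟨y, hy, e u (mem_zpowers u)⟩
  have noX : ∀ u : G, u • a = b → u • b = a → ∃ s ∈ S, u * s ≠ s * u := fun u ha hb => by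
    by_contra e
    push Not at e
    exact hx ⟨u, ha, hb, fun s hs => (e s hs).symm⟩
  obtain ⟨t0, ht0, t01⟩ := S.bot_or_exists_ne_one.resolve_left fun e => by
    have := h.four_le
    rw [e, card_bot] at this
    omega
  obtain ⟨c, hc⟩ := exists_moved (Ω := Ω) t01
  obtain ⟨g, ha0, hb0⟩ := exists_conj_sw h2 hab (h.elem t0 ht0) hc
  obtain ⟨y, hy, IR⟩ := toR _ (conj_mul_self (h.elem t0 ht0) g) ha0 hb0
  obtain ⟨Ia, Ib⟩ := y0_sw hy ha0 hb0
  have cI : IsConj t0 (y * (g * t0 * g⁻¹) * y⁻¹) := (isConj_conj t0 g).trans (isConj_conj _ y)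
  generalize y * (g * t0 * g⁻¹) * y⁻¹ = I at IR Ia Ib cI
  have II : I * I = 1 := mul_self_of_isConj (h.elem t0 ht0) cI
  have Ii : I⁻¹ = I := inv_eq_of_mul_eq_one_right II
  have norm : ∀ s ∈ S, I * s * I⁻¹ ∈ S := fun s hs =>
    hRK _ (mul_mem (mul_mem IR (hSR hs)) (inv_mem IR)) (conj_mem_stab2_of_swap Ia Ib (h.le hs))
  have hRS : ∀ g ∈ R, g ∈ S ∨ g * I ∈ S := fun g hg => by
    rcases hRY hg with e | e
    · exact Or.inl (hRK g hg e)
    · exact Or.inr (hRK _ (mul_mem hg IR) (mul_mem_stab2_of_swap e.1 e.2 Ia Ib))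
  obtain ⟨r0, hr0, hne⟩ := noX I Ia Ib
  have tS : r0 * (I * r0 * I⁻¹) ∈ S := mul_mem hr0 (norm r0 hr0)
  have t1 : r0 * (I * r0 * I⁻¹) ≠ 1 := fun e => hne (mul_inv_eq_iff_eq_mul.1
    (mul_left_cancel (e.trans (h.elem r0 hr0).symm)))
  have tsq : r0 * I * (r0 * I) = r0 * (I * r0 * I⁻¹) := by rw [Ii]; group
  have It : I * (r0 * (I * r0 * I⁻¹)) = r0 * (I * r0 * I⁻¹) * I := by
    calc I * (r0 * (I * r0 * I⁻¹)) = I * (I * r0 * I⁻¹ * r0) := by rw [cm hr0 (norm r0 hr0)]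
      _ = (I * I) * r0 * I⁻¹ * r0 := by group
      _ = _ := by rw [II, Ii, mul_assoc r0 _ I, mul_assoc _ I I, II]; group
  generalize r0 * (I * r0 * I⁻¹) = t at tS t1 tsq It
  have cen : ∀ s ∈ S, s * I = I * s → ∀ g ∈ R, g * s = s * g := fun s hs e g hg => by
    rcases hRS g hg with e1 | e1
    · exact cm e1 hs
    · have e2 := cm e1 hs
      rw [mul_assoc, ← e, ← mul_assoc, ← mul_assoc] at e2
      exact mul_right_cancel e2
  have sing : ∀ s ∈ S, s * I = I * s → ∃ r ∈ S, s = r * (I * r * I⁻¹) := fun s hs e => by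
    by_cases s1 : s = 1
    · exact ⟨1, one_mem _, by rw [s1]; group⟩
    obtain ⟨k, hk, e1⟩ := h.one t (h.le tS) s (h.le hs) (o2 (h.elem t tS) t1) (o2 (h.elem s hs) s1)
    let P : Sylow 2 (pairStab G a b) := (hR.comap_subtype (K := pairStab G a b)).toSylow hRi
    obtain ⟨n, hn, e2⟩ := P.conj_eq_normalizer_conj_of_mem_centralizer ⟨t, hRY (hSR tS)⟩
      ⟨k⁻¹, hKY (inv_mem hk)⟩ (fun g hg => Subtype.ext (cen t tS It.symm g hg))
      (fun g hg => Subtype.ext (by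
        show (g : G) * (k⁻¹⁻¹ * t * k⁻¹) = k⁻¹⁻¹ * t * k⁻¹ * g
        rw [inv_inv, e1]
        exact cen s hs e g hg))
    have e3 : s = (n : G)⁻¹ * t * n := by
      have := congrArg Subtype.val e2
      rw [← e1]
      simpa using this
    have hw : (n : G)⁻¹ * (r0 * I) * n ∈ R := by
      have := (mem_normalizer_iff.1 (inv_mem hn) ⟨r0 * I, hRY (mul_mem (hSR hr0) IR)⟩).1
        (mul_mem (hSR hr0) IR)
      rw [inv_inv] at this
      exact this
    have e4 : s = (n : G)⁻¹ * (r0 * I) * n * ((n : G)⁻¹ * (r0 * I) * n) := by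
      rw [e3, ← tsq]; group
    generalize (n : G)⁻¹ * (r0 * I) * n = w at hw e4
    rcases hRS w hw with e5 | e5
    · exact absurd (e4.trans (h.elem w e5)) s1
    · refine ⟨w * I, e5, ?_⟩
      calc s = w * (I * I) * w := by rw [e4, II, mul_one]
        _ = _ := by group
  obtain ⟨k0, -, e0⟩ := h.one t (h.le tS) t0 (h.le ht0) (o2 (h.elem t tS) t1) (o2 (h.elem t0 ht0) t01)
  refine ⟨t, I, ⟨h2, inferInstance, hab, h.le tS, h.elem t tS, t1,
    fun s hs e e1 => h.one t (h.le tS) s hs (o2 (h.elem t tS) t1) (o2 e e1), fun k hk e => ?_, II, Ia, Ib,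
    It, (e0 ▸ isConj_conj t k0 : IsConj t t0).trans cI, fun u hu ha hb => ?_⟩, h.le, tS, h.elem, norm,
    noX, sing, y0_half h.elem II norm sing⟩
  · obtain ⟨j, -, hj⟩ := (Nat.dvd_prime_pow Nat.prime_two).1
      (orderOf_dvd_of_pow_eq_one (x := k) (n := 2 ^ 2) (by rw [← e]; norm_num [pow_succ, mul_assoc]))
    obtain ⟨y, -, e1⟩ := exists_conj_le_of_not_dvd_relIndex (A := zpowers k) (p := 2)
      (isPGroup_zpowers_of_orderOf hj) (zpowers_le.2 hk) h.two hodd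
    have := h.elem _ (e1 k (mem_zpowers k))
    calc k * k = y⁻¹ * (y * k * y⁻¹ * (y * k * y⁻¹)) * y := by group
      _ = 1 := by rw [this]; group
  · obtain ⟨k, hk, e⟩ : ∃ k ∈ stab2 G a b, k * u * k⁻¹ ∈ R := by
      obtain ⟨y, hy, e⟩ := toR u hu ha hb
      rcases hy with hy | hy
      · exact ⟨y, hy, e⟩
      · refine ⟨I * y, mul_mem_stab2_of_swap Ia Ib hy.1 hy.2, ?_⟩
        rw [show I * y * u * (I * y)⁻¹ = I * (y * u * y⁻¹) * I⁻¹ by group]
        exact mul_mem (mul_mem IR e) (inv_mem IR)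
    obtain ⟨wa, wb⟩ := y0_sw (hKY hk) ha hb
    have ww := conj_mul_self hu k
    have e1 : k * u * k⁻¹ * I ∈ S := hRK _ (mul_mem e IR) (mul_mem_stab2_of_swap wa wb Ia Ib)
    obtain ⟨r, hr, e2⟩ := sing _ e1 (by
      have e3 := h.elem _ e1
      generalize k * u * k⁻¹ = w at ww e3
      calc w * I * I = w := by rw [mul_assoc, II, mul_one]
        _ = (w * I * (w * I))⁻¹ * w := by rw [e3, inv_one, one_mul]
        _ = I⁻¹ * w⁻¹ * I⁻¹ := by group
        _ = I * (w * I) := by rw [Ii, inv_eq_of_mul_eq_one_right ww, mul_assoc])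
    refine ⟨k⁻¹ * r, mul_mem (inv_mem hk) (h.le hr), ?_⟩
    have e4 : k * u * k⁻¹ = r * I * r⁻¹ := by
      rw [inv_eq_of_mul_eq_one_right (h.elem r hr)]
      calc k * u * k⁻¹ = k * u * k⁻¹ * I * I⁻¹ := by group
        _ = r * (I * r * I⁻¹) * I⁻¹ := by rw [e2]
        _ = r * I * r * (I * I)⁻¹ := by group
        _ = _ := by rw [II, inv_one, mul_one]
    calc k⁻¹ * r * I * (k⁻¹ * r)⁻¹ = k⁻¹ * (r * I * r⁻¹) * k := by group
      _ = u := by rw [← e4]; group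

end CfsgLib.TPS
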