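import Cfsg.Agent.Lib.TPS.Defs
import Cfsg.Agent.Lib.Kim.AHO3

/-! S3400, type Y: vocabulary and the basic counts.  See `plans/TPSY.md`. -/

set_option autoImplicit false
set_option linter.unusedSectionVars false

namespace CfsgLib.TPS

open Subgroup MulAction CfsgLib.Perm CfsgLib.Kim CfsgLib.DihSyl

variable {G : Type*} [Group G] {Ω : Type*} [MulAction G Ω]

/-- `K = G_ab` has one class of involutions and no element of order 4; the involutions interchanging
`a`, `b` are conjugate under `K` to `I`, and `I` is conjugate to `t` -/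
structure YB (a b : Ω) (t I : G) : Prop where
  two : IsMultiplyPretransitive G Ω 2
  faith : FaithfulSMul G Ω
  hab : a ≠ b
  tK : t ∈ stab2 G a b
  tt : t * t = 1
  t1 : t ≠ 1
  conjK : ∀ s ∈ stab2 G a b, s * s = 1 → s ≠ 1 → ∃ k ∈ stab2 G a b, k * t * k⁻¹ = s
  no4 : ∀ k ∈ stab2 G a b, k * k * (k * k) = 1 → k * k = 1
  II : I * I = 1
  Ia : I • a = b
  Ib : I • b = a
  It : I * t = t * I
  conjI : IsConj t I
  conjS : ∀ u : G, u * u = 1 → u • a = b → u • b = a → ∃ k ∈ stab2 G a b, k * I * k⁻¹ = u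

/-- type Y, with the Sylow 2-subgroup `S` of `K` -/
structure YC (a b : Ω) (S : Subgroup G) (t I : G) : Prop extends YB a b t I where
  SK : S ≤ stab2 G a b
  tS : t ∈ S
  sq : ∀ s ∈ S, s * s = 1
  norm : ∀ s ∈ S, I * s * I⁻¹ ∈ S
  noX : ∀ u : G, u • a = b → u • b = a → ∃ s ∈ S, u * s ≠ s * u
  sing : ∀ s ∈ S, s * I = I * s → ∃ r ∈ S, s = r * (I * r * I⁻¹)
  half : Nat.card ↥(S ⊓ centralizer ({I} : Set G)) ^ 2 = Nat.card S

/-- type Y, `K ≅ L₂(Q)`, `Q = |S| ≥ 16` even -/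
structure YE (a b : Ω) (S : Subgroup G) (t I : G) : Prop extends YC a b S t I where
  cent : ∀ s ∈ S, s ≠ 1 → ∀ k ∈ stab2 G a b, k * s = s * k → k ∈ S
  big : 16 ≤ Nat.card S

/-- type Y, `K ≅ L₂(q)`, `q` odd, `S = {1, t, s, t s}`, `C_K(t) = ⟨x, s⟩` -/
structure YO (a b : Ω) (t I s x : G) (μ β q : ℕ) : Prop extends YB a b t I where
  dih : IsDih (stab2 G a b ⊓ centralizer ({t} : Set G)) (2 * μ) x s
  xt : x ^ μ = t
  odd : Odd μ
  three : 3 ≤ μ
  Is : I * s * I⁻¹ = t * s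
  noX : ∀ u : G, u • a = b → u • b = a → u * t = t * u → u * s ≠ s * u
  inv : ∀ u : G, u * u = 1 → u • a = b → u • b = a → u * t = t * u → u * x * u⁻¹ = x⁻¹
  cardK : Nat.card (stab2 G a b) = 4 * μ * (q * β)
  cardI : Nat.card ↥(stab2 G a b ⊓ centralizer ({I} : Set G)) = 2 * β
  cop : Nat.Coprime (2 * μ) β
  le : 2 * μ ≤ β + 1

/-- the size of an orbit under conjugation -/
theorem ncard_orb [Finite G] (K : Subgroup G) (t : G) :
    {s | ∃ k ∈ K, k * t * k⁻¹ = s}.ncard * Nat.card ↥(K ⊓ centralizer ({t} : Set G)) =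
      Nat.card K := by
  have := dc (Set.toFinite (K : Set G)) (Set.toFinite {s | ∃ k ∈ K, k * t * k⁻¹ = s})
    (fun g s => g * t * g⁻¹ = s) (m := 1) (n := Nat.card ↥(K ⊓ centralizer ({t} : Set G)))
    (fun g hg => ?_) (fun s hs => ?_)
  · rw [← this, mul_one, ncard_coe]
  · rw [Set.ncard_eq_one]
    exact ⟨_, Set.eq_singleton_iff_unique_mem.2 ⟨⟨⟨g, hg, rfl⟩, rfl⟩, fun x hx => hx.2.symm⟩⟩
  · obtain ⟨g, hg, rfl⟩ := hs
    rw [← ncard_coe]
    symm
    refine Set.ncard_congr (fun x _ => g * x) (fun x hx => ⟨K.mul_mem hg hx.1, ?_⟩)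
      (fun _ _ _ _ e => mul_left_cancel e) (fun x hx => ⟨g⁻¹ * x, ⟨K.mul_mem (K.inv_mem hg) hx.1, ?_⟩,
        by group⟩)
    · have : x * t = t * x := commC hx.2
      calc g * x * t * (g * x)⁻¹ = g * (x * t) * x⁻¹ * g⁻¹ := by group
        _ = _ := by rw [this]; group
    · refine memC ?_
      calc g⁻¹ * x * t = g⁻¹ * (x * t * x⁻¹) * x := by group
        _ = _ := by rw [hx.2]; group

namespace YB

variable [Finite G] [Finite Ω] {a b : Ω} {t I : G} (h : YB a b t I)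
include h

theorem aF : a ∈ fixedBy Ω t := h.tK.1

theorem bF : b ∈ fixedBy Ω t := h.tK.2

theorem I1 : I ≠ 1 := ne_one_of_isConj h.t1 h.conjI

theorem Iinv : I⁻¹ = I := inv_eq_of_mul_eq_one_right h.II

theorem IC : I ∈ centralizer ({t} : Set G) := memC h.It

/-- an involution fixing two points is conjugate to `t` -/
theorem conj_of_fix {s : G} (hs : s * s = 1) (h1 : s ≠ 1) {c d : Ω} (hcd : c ≠ d) (hc : s • c = c)
    (hd : s • d = d) : ∃ g : G, g • a = c ∧ g • b = d ∧ g * t * g⁻¹ = s := by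
  obtain ⟨g, ha, hb⟩ := exists_smul_pair h.two h.hab hcd
  obtain ⟨k, hk, e⟩ := h.conjK (g⁻¹ * s * g) ⟨by
      show _ • a = a
      rw [mul_smul, mul_smul, ha, hc, ← ha, inv_smul_smul], by
      show _ • b = b
      rw [mul_smul, mul_smul, hb, hd, ← hb, inv_smul_smul]⟩ (by simpa using conj_mul_self hs g⁻¹)
    fun e => h1 (by simpa [mul_assoc] using congrArg (fun x => g * x * g⁻¹) e)
  exact ⟨g * k, by rw [mul_smul, hk.1, ha], by rw [mul_smul, hk.2, hb], by
    rw [show g * k * t * (g * k)⁻¹ = g * (k * t * k⁻¹) * g⁻¹ by group, e]; group⟩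

theorem toC {c d : Ω} (hc : t • c = c) (hd : t • d = d) (hcd : c ≠ d) :
    ∃ g : G, g * t = t * g ∧ g • a = c ∧ g • b = d :=
  let ⟨g, h1, h2, h3⟩ := h.conj_of_fix h.tt h.t1 hcd hc hd
  ⟨g, mul_inv_eq_iff_eq_mul.1 h3, h1, h2⟩

/-- Witt: `C(t)` is doubly transitive on `Fix t` -/
theorem tC : TT (centralizer ({t} : Set G)) (fixedBy Ω t) := by
  refine ⟨fun g hg x hx => smul_fix_of_comm (commC hg) hx, fun ha hb hc hd hab hcd => ?_⟩
  obtain ⟨g, h1, h2, h3⟩ := h.toC ha hb hab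
  obtain ⟨g', h4, h5, h6⟩ := h.toC hc hd hcd
  exact ⟨g' * g⁻¹, mul_mem (memC h4) (inv_mem (memC h1)), by rw [mul_smul, ← h2, inv_smul_smul, h5],
    by rw [mul_smul, ← h3, inv_smul_smul, h6]⟩

/-- one class of involutions in `G` -/
theorem one {s : G} (hs : s * s = 1) (h1 : s ≠ 1) : IsConj t s := by
  have := h.faith
  obtain ⟨c, hc⟩ := exists_moved (Ω := Ω) h1
  obtain ⟨g, ha, hb⟩ := exists_conj_sw h.two h.hab hs hc
  obtain ⟨k, -, e⟩ := h.conjS _ (conj_mul_self hs g) ha hb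
  exact (h.conjI.trans (e ▸ isConj_conj I k)).trans (isConj_conj s g).symm

/-- an element of order 4 fixes at most one point -/
theorem sq_of_fix {g : G} (h4 : g * g * (g * g) = 1) {c d : Ω} (hcd : c ≠ d) (hc : g • c = c)
    (hd : g • d = d) : g * g = 1 := by
  obtain ⟨u, ha, hb⟩ := exists_smul_pair h.two h.hab hcd
  have := h.no4 (u⁻¹ * g * u) ⟨by
      show _ • a = a
      rw [mul_smul, mul_smul, ha, hc, ← ha, inv_smul_smul], by
      show _ • b = b
      rw [mul_smul, mul_smul, hb, hd, ← hb, inv_smul_smul]⟩ (by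
    calc _ = u⁻¹ * (g * g * (g * g)) * u := by group
      _ = 1 := by rw [h4]; group)
  calc g * g = u * (u⁻¹ * g * u * (u⁻¹ * g * u)) * u⁻¹ := by group
    _ = 1 := by rw [this]; group

/-- an element interchanging `a`, `b` lies in `I K` -/
theorem sw_mem {u : G} (ha : u • a = b) (hb : u • b = a) : I * u ∈ stab2 G a b :=
  mul_mem_stab2_of_swap h.Ia h.Ib ha hb

theorem lt_card : (fixedBy Ω t).ncard < Nat.card Ω := by
  have := h.faith
  obtain ⟨c, hc⟩ := exists_moved (Ω := Ω) h.t1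
  rw [← Set.ncard_univ]
  exact Set.ncard_lt_ncard ⟨Set.subset_univ _, fun e => hc (e (Set.mem_univ c))⟩

theorem two_le : 2 ≤ (fixedBy Ω t).ncard :=
  (Set.one_lt_ncard (Set.toFinite _)).2 ⟨a, h.aF, b, h.bF, h.hab⟩

theorem parity : Nat.card Ω % 2 = (fixedBy Ω t).ncard % 2 := by
  have := ncard_mod_two (F := (Set.univ : Set Ω)) (g := t) (fun _ _ => trivial)
    (fun x _ => by rw [← mul_smul, h.tt, one_smul])
  rwa [Set.ncard_univ, Set.inter_univ] at this

/-- `k₂ |C_K(t)| = |K|` -/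
theorem f2_card : (f2 (cl t) a b).ncard * Nat.card ↥(stab2 G a b ⊓ centralizer ({t} : Set G)) =
    Nat.card (stab2 G a b) := by
  rw [← ncard_orb (stab2 G a b) t]
  congr 2
  ext s
  constructor
  · rintro ⟨h1, h2, h3⟩
    exact h.conjK s ⟨h2, h3⟩ (mul_self_of_isConj h.tt h1) (ne_one_of_isConj h.t1 h1)
  · rintro ⟨k, hk, rfl⟩
    have := mul_mem (mul_mem hk h.tK) (inv_mem hk)
    exact ⟨isConj_conj t k, this.1, this.2⟩

/-- `d |C_K(I)| = |K|` -/
theorem sw_card : (sw (cl t) a b).ncard * Nat.card ↥(stab2 G a b ⊓ centralizer ({I} : Set G)) =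
    Nat.card (stab2 G a b) := by
  rw [← ncard_orb (stab2 G a b) I]
  congr 2
  ext s
  constructor
  · rintro ⟨h1, h2, h3⟩
    exact h.conjS s (mul_self_of_isConj h.tt h1) h2 h3
  · rintro ⟨k, hk, rfl⟩
    have hk' := inv_mem hk
    exact ⟨h.conjI.trans (isConj_conj I k), by rw [mul_smul, mul_smul, hk'.1, h.Ia, hk.2],
      by rw [mul_smul, mul_smul, hk'.2, h.Ib, hk.1]⟩

/-- Kimura's counts: `k₂ (n - i) = d i (i - 1)` and `m = k₂ + d i` -/
theorem cnt : ((f2 (cl t) a b).ncard : ℤ) * (Nat.card Ω - (fixedBy Ω t).ncard) =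
      (sw (cl t) a b).ncard * ((fixedBy Ω t).ncard * ((fixedBy Ω t).ncard - 1)) ∧
    (f1 (cl t) a).ncard = (f2 (cl t) a b).ncard + (sw (cl t) a b).ncard * (fixedBy Ω t).ncard := by
  have hf : ∀ s ∈ cl t, (fixedBy Ω s ∩ Set.univ).ncard = (fixedBy Ω t).ncard := fun s hs => by
    rw [Set.inter_univ, ncard_fixedBy_of_isConj hs]
  have h1 := (tt_top h.two).cnt_sw (cl_conj t) (fun _ _ => trivial) (fun s hs x _ => by
    rw [← mul_smul, mul_self_of_isConj h.tt hs, one_smul]) hf trivial trivial h.hab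
  have h2 := (tt_top h.two).cnt_two (cl_conj t) hf trivial trivial h.hab
  have h3 := (tt_top h.two).cnt_one (cl_conj t) hf (a := a) trivial
  rw [Set.ncard_univ] at h1 h2 h3
  have h4 := h.lt_card
  have h5 := h.two_le
  zify at h3
  have h0 : ((cl t).ncard : ℤ) ≠ 0 := by
    exact_mod_cast ((Set.ncard_pos (Set.toFinite _)).2 ⟨t, IsConj.refl t⟩).ne'
  have e1 : ((f2 (cl t) a b).ncard : ℤ) * (Nat.card Ω - (fixedBy Ω t).ncard) =
      (sw (cl t) a b).ncard * ((fixedBy Ω t).ncard * ((fixedBy Ω t).ncard - 1)) :=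
    mul_left_cancel₀ h0 (by
      linear_combination (f2 (cl t) a b).ncard * h1 - (sw (cl t) a b).ncard * h2)
  refine ⟨e1, ?_⟩
  zify
  refine mul_left_cancel₀ (show (Nat.card Ω : ℤ) * ((fixedBy Ω t).ncard - 1) ≠ 0 from
    mul_ne_zero (by omega) (by omega)) ?_
  linear_combination h2 - ((fixedBy Ω t).ncard - 1) * h3 + (Nat.card Ω : ℤ) * e1

end YB

end CfsgLib.TPS
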