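import Cfsg.Agent.Lib.TPS.YDefs

/-! S3400, package YE1: type Y, `L₂(Q)` with `Q` even, odd degree.  See `plans/TPSY.md`. -/

set_option autoImplicit false
set_option linter.unusedSectionVars false

namespace CfsgLib.TPS

open Subgroup MulAction CfsgLib.Perm CfsgLib.Kim CfsgLib.DihSyl

variable {G : Type*} [Group G] [Finite G] {Ω : Type*} [Finite Ω] [MulAction G Ω]
  {a b : Ω} {S : Subgroup G} {t I : G}

namespace YE

variable (h : YE a b S t I)
include h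

theorem ye1_comm {r s : G} (hr : r ∈ S) (hs : s ∈ S) : r * s = s * r :=
  Reg.comm_of_sq h.sq hr hs

theorem ye1_SH {r : G} (hr : r ∈ S) : r ∈ centralizer ({t} : Set G) := memC (h.ye1_comm hr h.tS)

theorem ye1_mem {g : G} (hg : g ∈ centralizer ({t} : Set G)) (ha : g • a = a) (hb : g • b = b) : g ∈ S :=
  h.cent t h.tS h.t1 g ⟨ha, hb⟩ (commC hg)

theorem ye1_sq (r : G) : I * r * (I * r) = I * r * I⁻¹ * r := by rw [h.toYB.Iinv, mul_assoc (I * r)]

/-- `S` fixes `Fix t` pointwise -/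
theorem ye1_fix (ho : Odd (fixedBy Ω t).ncard) : ∀ r ∈ S, ∀ x ∈ fixedBy Ω t, r • x = x := by
  have y := h.toYB
  let Z : Set G := {u | u ∈ centralizer ({t} : Set G) ∧ u * u ≠ 1 ∧ ∀ x ∈ fixedBy Ω t, u • u • x = x}
  have hZ : ∀ g ∈ centralizer ({t} : Set G), ∀ u ∈ Z, g * u * g⁻¹ ∈ Z := fun g hg u hu =>
    ⟨mul_mem (mul_mem hg hu.1) (inv_mem hg), fun e => hu.2.1 (by
      rw [conj_mul] at e
      simpa using e), fun x hx => by
      have := hu.2.2 _ (y.tC.inv _ (inv_mem hg) x hx)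
      simp only [mul_smul, inv_smul_smul, this, smul_inv_smul]⟩
  have uq : ∀ u ∈ Z, ∀ c d : Ω, u • c = c → u • d = d → c = d := fun u hu c d hc hd => by
    by_contra hcd
    refine hu.2.1 (y.sq_of_fix (h.sq _ (h.ye1_mem (mul_mem hu.1 hu.1) ?_ ?_)) hcd hc hd)
    exacts [(mul_smul _ _ _).trans (hu.2.2 a y.aF), (mul_smul _ _ _).trans (hu.2.2 b y.bF)]
  have ex : ∀ u ∈ Z, ∃ c ∈ fixedBy Ω t, u • c = c := fun u hu => exists_fix_of_odd (y.tC.inv u hu.1) hu.2.2 ho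
  have mk : ∀ r ∈ S, I * r * I⁻¹ * r ≠ 1 → (∀ x ∈ fixedBy Ω t, (I * r * I⁻¹ * r) • x = x) → I * r ∈ sw Z a b :=
    fun r hr h1 h2 => ⟨⟨mul_mem y.IC (h.ye1_SH hr), by rwa [h.ye1_sq], fun x hx => by
      rw [← mul_smul, h.ye1_sq, h2 x hx]⟩, by rw [mul_smul, (h.SK hr).1, h.Ia], by rw [mul_smul, (h.SK hr).2, h.Ib]⟩
  obtain ⟨r0, hr0, e0⟩ := h.sing t h.tS h.It.symm
  rw [h.ye1_comm hr0 (h.norm r0 hr0)] at e0
  have hy : I * r0 ∈ sw Z a b := mk r0 hr0 (e0 ▸ h.t1) fun x hx => e0 ▸ hx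
  obtain ⟨γ, γF, hγ⟩ := ex _ hy.1
  have γa : a ≠ γ := fun e => h.hab (by rw [← hy.2.1, e, hγ])
  have k1 : ∀ r ∈ S, I * r ∈ Z → r • γ = γ := fun r hr hz => by
    refine uq _ hy.1 _ _ ?_ hγ
    have e : I * r0 * (I * r * (I * r)) * r = r * (I * r0) := by
      have c1 := h.ye1_comm hr0 (h.norm r hr)
      calc _ = I * (r0 * (I * r * I⁻¹)) * (r * r) := by rw [h.ye1_sq]; group
        _ = I * I * r * I⁻¹ * r0 := by rw [c1, h.sq r hr]; group
        _ = _ := by rw [h.II, y.Iinv]; group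
    have := hz.2.2 _ (y.tC.inv r (h.ye1_SH hr) γ γF)
    calc _ = (I * r0 * (I * r * (I * r)) * r) • γ := by rw [mul_smul _ r, mul_smul (I * r0), mul_smul (I * r), this]
      _ = _ := by rw [e, mul_smul, hγ]
  have Iγ : I • γ = γ := by rwa [mul_smul, k1 r0 hr0 hy.1] at hγ
  have sub : sw Z a b ⊆ f1 Z γ := fun u hu => by
    have m := y.sw_mem hu.2.1 hu.2.2
    have e : I * (I * u) = u := by rw [← mul_assoc, h.II, one_mul]
    have := k1 _ (h.ye1_mem (mul_mem y.IC hu.1.1) m.1 m.2) (e.symm ▸ hu.1)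
    exact ⟨hu.1, by rw [← e, mul_smul, this, Iγ]⟩
  have eq : sw Z a b = f1 Z γ := Set.eq_of_subset_of_ncard_le sub
    (y.tC.cnt_f1_of_one hZ (fun u hu => hu.1) (fun u hu => hu.2.2) (fun u hu => by
      obtain ⟨c, cF, hc⟩ := ex u hu
      rw [Set.ncard_eq_one]
      exact ⟨c, Set.eq_singleton_iff_unique_mem.2 ⟨⟨hc, cF⟩, fun d hd => uq u hu d c hd.1 hc⟩⟩)
      y.aF y.bF h.hab γF).le
  have P : ∀ r ∈ S, I * r ∈ sw Z a b → ∀ x ∈ fixedBy Ω t, r • x = r0 • x := fun r hr hz x hx => by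
    refine MulAction.injective I ?_
    change I • r • x = I • r0 • x
    rw [← mul_smul, ← mul_smul]
    by_cases e : x = γ
    · rw [e, (sub hz).2, hγ]
    obtain ⟨g, hg, g1, g2⟩ := y.tC.two hx γF y.aF γF e γa
    have k : ∀ u ∈ sw Z a b, g • u • x = b := fun u hu => by
      have : g * u * g⁻¹ ∈ sw Z a b := eq ▸ ⟨hZ g hg u hu.1, by
        conv_lhs => rw [← g2, conj_smul, (sub hu).2, g2]⟩
      rw [← conj_smul, g1, this.2.1]
    exact MulAction.injective g ((k _ hz).trans (k _ hy).symm)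
  have f1' : ∀ s ∈ S, s * I = I * s → ∀ x ∈ fixedBy Ω t, s • x = x := fun s hs c x hx => by
    have e : I * (r0 * s) * I⁻¹ * (r0 * s) = t := by
      calc _ = I * r0 * (s * I) * (r0 * s) := by rw [y.Iinv]; group
        _ = I * r0 * I * (s * r0) * s := by rw [c]; group
        _ = I * r0 * I⁻¹ * r0 * (s * s) := by rw [h.ye1_comm hs hr0, y.Iinv]; group
        _ = t := by rw [h.sq s hs, mul_one, ← e0]
    have := P _ (mul_mem hr0 hs) (mk _ (mul_mem hr0 hs) (e.symm ▸ h.t1) fun x hx => e.symm ▸ hx) x hx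
    rw [mul_smul] at this
    exact MulAction.injective r0 this
  have f2' : ∀ r ∈ S, r * I ≠ I * r → ∀ x ∈ fixedBy Ω t, r • x = r0 • x := fun r hr c => by
    refine P r hr (mk r hr (fun e => c ?_) (f1' _ (mul_mem (h.norm r hr) hr) ?_))
    · rw [← h.sq r hr, mul_left_inj, mul_inv_eq_iff_eq_mul] at e
      exact e.symm
    · calc _ = I * (r * (I * r * I⁻¹)) := by rw [y.Iinv]; group
        _ = _ := by rw [h.ye1_comm hr (h.norm r hr)]
  obtain ⟨r, hr, c1, c2⟩ : ∃ r ∈ S, r * I ≠ I * r ∧ r0 * r * I ≠ I * (r0 * r) := by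
    by_contra! c
    have sb : (S : Set G) ⊆ (S ⊓ centralizer ({I} : Set G) : Subgroup G) ∪
        (r0 * ·) '' (S ⊓ centralizer ({I} : Set G) : Subgroup G) := fun r hr => by
      by_cases e : r * I = I * r
      · exact .inl ⟨hr, memC e⟩
      · exact .inr ⟨r0 * r, ⟨mul_mem hr0 hr, memC (c r hr e)⟩, by
          simp only [← mul_assoc, h.sq r0 hr0, one_mul]⟩
    have := (Set.ncard_le_ncard sb).trans ((Set.ncard_union_le _ _).trans
      (Nat.add_le_add_left (Set.ncard_image_le (Set.toFinite _)) _))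
    rw [ncard_coe, ncard_coe, ← h.half] at this
    have b := h.big
    rw [← h.half] at b
    nlinarith
  have f0 : ∀ x ∈ fixedBy Ω t, r0 • x = x := fun x hx => by
    have e1 := f2' _ (mul_mem hr0 hr) c2 x hx
    rw [mul_smul] at e1
    rw [← f2' r hr c1 x hx]
    exact MulAction.injective r0 e1
  intro s hs x hx
  by_cases c : s * I = I * s
  · exact f1' s hs c x hx
  · rw [f2' s hs c x hx, f0 x hx]

end YE

theorem YE.odd (h : YE a b S t I) (ho : Odd (Nat.card Ω)) : False := by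
  have y := h.toYB
  have ho' : Odd (fixedBy Ω t).ncard := by rwa [Nat.odd_iff, ← y.parity, ← Nat.odd_iff]
  have fx := h.ye1_fix ho'
  have cf : ∀ c ∈ centralizer ({t} : Set G), ∀ g : G, c⁻¹ * g * c ∈ S → ∀ z ∈ fixedBy Ω t, g • z = z :=
    fun c hc g hg z hz => by
      have := fx _ hg _ (y.tC.inv _ (inv_mem hc) z hz)
      rw [mul_smul, mul_smul, smul_inv_smul] at this
      exact MulAction.injective c⁻¹ this
  obtain ⟨g, hg⟩ := isConj_iff.1 h.conjI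
  have t' : g⁻¹ * t * g ∈ centralizer ({t} : Set G) := memC (by
    calc _ = g⁻¹ * (t * (g * t * g⁻¹)) * g := by group
      _ = _ := by rw [hg, ← h.It, ← hg]; group)
  have nS : ∀ u ∈ S, g⁻¹ * t * g * u * (g⁻¹ * t * g)⁻¹ ∈ S := fun u hu => by
    have := cf _ t' (g⁻¹ * t * g * u * (g⁻¹ * t * g)⁻¹) (by simpa [mul_assoc] using hu)
    exact h.ye1_mem (mul_mem (mul_mem t' (h.ye1_SH hu)) (inv_mem t')) (this a y.aF) (this b y.bF)
  have tt : g⁻¹ * t * g * (g⁻¹ * t * g) = 1 := by simpa using conj_mul_self h.tt g⁻¹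
  have le := (card_le_cent_sq h.sq nS fun u _ => by rw [tt, one_mul, mul_one]).1
  have := Fintype.ofFinite ↥(S ⊓ centralizer ({g⁻¹ * t * g} : Set G))
  obtain ⟨p, q, r, pq, pr, qr⟩ := (Fintype.two_lt_card_iff (α := ↥(S ⊓ centralizer ({g⁻¹ * t * g} : Set G)))).1
    (by rw [← Nat.card_eq_fintype_card]; have := h.big; nlinarith)
  obtain ⟨γ, γF, hγ⟩ := exists_fix_of_odd (y.tC.inv I y.IC) (fun x _ => by rw [← mul_smul, h.II, one_smul]) ho'
  have fI : ∀ w ∈ S, ∀ x ∈ fixedBy Ω I, (g * w * g⁻¹) • x = x := fun w hw x hx => by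
    have : g⁻¹ • x ∈ fixedBy Ω t := by
      have e : I • x = x := hx
      rw [← hg, mul_smul, mul_smul] at e
      exact (eq_inv_smul_iff.2 e)
    rw [mul_smul, mul_smul, fx w hw _ this, smul_inv_smul]
  have mv : ∀ w ∈ S, w ≠ 1 → ∃ x ∈ fixedBy Ω t, (g * w * g⁻¹) • x ≠ x := fun w hw w1 => by
    by_contra! c
    have c0 := ncard_fixedBy_of_isConj (Ω := Ω) (y.one (conj_mul_self (h.sq w hw) g) (by simpa using w1))
    have e1 : fixedBy Ω t = fixedBy Ω (g * w * g⁻¹) := Set.eq_of_subset_of_ncard_le c c0.le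
    have e2 : fixedBy Ω I = fixedBy Ω (g * w * g⁻¹) := Set.eq_of_subset_of_ncard_le (fI w hw)
      (c0.trans (ncard_fixedBy_of_isConj h.conjI).symm).le
    have : I • a = a := (e2.symm ▸ e1 ▸ y.aF : a ∈ fixedBy Ω I)
    exact h.hab (this.symm.trans h.Ia)
  have mH : ∀ w : ↥(S ⊓ centralizer ({g⁻¹ * t * g} : Set G)), g * w * g⁻¹ ∈ centralizer ({t} : Set G) :=
    fun w => memC (by
      calc _ = g * (w * (g⁻¹ * t * g)) * g⁻¹ := by group
        _ = _ := by rw [commC w.2.2]; group)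
  have sq : ∀ w ∈ S, ∀ x : Ω, (g * w * g⁻¹) • (g * w * g⁻¹) • x = x := fun w hw x => by
    rw [← mul_smul, conj_mul_self (h.sq w hw), one_smul]
  have n1 : ∀ {u v : ↥(S ⊓ centralizer ({g⁻¹ * t * g} : Set G))}, u ≠ v → ((u⁻¹ * v : _) : G) ≠ 1 :=
    fun e c => e (Subtype.ext (inv_mul_eq_one.1 c))
  have key := y.tC.uniq_inv ho' (fun c hc x hx z hz xz e1 e2 => by
      obtain ⟨d, hd, d1, d2⟩ := y.toC hx hz xz
      refine cf d (memC hd) c (h.ye1_mem (mul_mem (mul_mem (inv_mem (memC hd)) hc) (memC hd)) ?_ ?_)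
      · rw [mul_smul, mul_smul, d1, e1, ← d1, inv_smul_smul]
      · rw [mul_smul, mul_smul, d2, e2, ← d2, inv_smul_smul]) γF (mH (p⁻¹ * q)) (mH (p⁻¹ * r))
    (fI _ (p⁻¹ * q).2.1 γ hγ) (fI _ (p⁻¹ * r).2.1 γ hγ) (fun x _ => sq _ (p⁻¹ * q).2.1 x)
    (fun x _ => sq _ (p⁻¹ * r).2.1 x) (mv _ (p⁻¹ * q).2.1 (n1 pq)) (mv _ (p⁻¹ * r).2.1 (n1 pr))
  obtain ⟨x, hx, e⟩ := mv _ ((p⁻¹ * q)⁻¹ * (p⁻¹ * r)).2.1 (n1 fun c => qr (mul_left_cancel c))
  apply e
  rw [Subgroup.coe_mul, ← conj_mul, mul_smul, ← key x hx, ← mul_smul, conj_mul, ← Subgroup.coe_mul, inv_mul_cancel]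
  simp

end CfsgLib.TPS
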