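import Cfsg.Agent.Lib.TPS.YDefs
import Cfsg.Agent.Lib.Fgs.Rank3
import Cfsg.Agent.Lib.BenderRed.BasicA

/-! S3400, package YE2: type Y, `L₂(Q)` with `Q` even, even degree.  See `plans/TPSY.md`. -/

set_option autoImplicit false
set_option linter.unusedSectionVars false

namespace CfsgLib.TPS

open Subgroup MulAction CfsgLib.Perm CfsgLib.Kim CfsgLib.DihSyl

variable {G : Type*} [Group G] [Finite G] {Ω : Type*} [Finite Ω] [MulAction G Ω]
  {a b : Ω} {S : Subgroup G} {t I : G}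

theorem ye2_pow {n : ℕ} (hn : 7 ≤ n) : (4 * n ^ 2 + 8 * n + 3) * (2 * n + 6) < 4 * 3 ^ n := by
  induction n, hn using Nat.le_induction with
  | base => norm_num
  | succ n hn ih => rw [pow_succ 3]; nlinarith [Nat.zero_le n, Nat.zero_le (n ^ 2), Nat.zero_le (n ^ 3)]

theorem ye2_arith {n c e ω k d j : ℕ} (hn : 7 ≤ n) (hc : 0 < c) (he : 0 < e) (hω : Odd ω)
    (hw : ((c * e) ^ 2) ^ (2 * n + 1) * (c * e * ω) ^ 2 = c ^ (2 * n + 2) * (c * e * ω) ^ (2 * n + 2))
    (hk : k * ω = k + d * (e * j + 1)) (hd : 0 < d) (hk2 : k = (2 * n + 3) * (2 * n + 1))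
    (h4 : 4 * d ≤ (2 * n + 3) * (2 * n + 2) * (2 * n + 1)) : False := by
  have h0 : 0 < ω := hω.pos
  have h1 : (e ^ (n + 1)) ^ 2 = (ω ^ n) ^ 2 :=
    Nat.eq_of_mul_eq_mul_left (show 0 < c ^ (4 * n + 4) * e ^ (2 * n + 2) * ω ^ 2 by positivity) (by
      simp only [mul_pow, ← pow_mul] at hw ⊢
      calc _ = c ^ (2 * (2 * n + 1)) * e ^ (2 * (2 * n + 1)) * (c ^ 2 * e ^ 2 * ω ^ 2) := by ring
        _ = _ := by rw [hw]; ring)
  have h2 : e ^ (n + 1) = ω ^ n := Nat.pow_left_injective two_ne_zero h1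
  obtain ⟨w, rfl⟩ : e ∣ ω := (Nat.pow_dvd_pow_iff (show n ≠ 0 by omega)).1 (h2 ▸ Dvd.intro _ (pow_succ e n).symm)
  have h3 : e = w ^ n := Nat.eq_of_mul_eq_mul_left (pow_pos he n) (by rw [← pow_succ, h2, mul_pow])
  have h5 : e ∣ k + d := by
    have : e ∣ k + d + e * (d * j) := ⟨k * w, by linarith⟩
    exact (Nat.dvd_add_left (Dvd.intro _ rfl)).1 this
  have h6 := Nat.le_of_dvd (by omega) h5
  obtain ⟨v, rfl⟩ := (Nat.odd_mul.1 hω).2
  rcases Nat.eq_zero_or_pos v with rfl | hv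
  · simp only [mul_zero, zero_add, one_pow] at h3
    subst h3
    nlinarith [Nat.zero_le (d * j)]
  · have h7 : 3 ^ n ≤ (2 * v + 1) ^ n := Nat.pow_le_pow_left (by omega) n
    have := ye2_pow hn
    nlinarith

theorem YE.even (h : YE a b S t I)
    (hK : Nat.card (stab2 G a b) = (Nat.card S + 1) * Nat.card S * (Nat.card S - 1))
    {O : Subgroup G} (hO : Odd (Nat.card O)) (hOa : O ≤ stabilizer G a)
    (hOn : ∀ g : G, g • a = a → ∀ o ∈ O, g * o * g⁻¹ ∈ O) (hOK : O ⊓ stab2 G a b = ⊥)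
    (hsoc : ∀ u : G, u • a = a → u * u = 1 → ∃ k ∈ stab2 G a b, ∃ o ∈ O, u = k * o) : False := by
  classical
  have := Fintype.ofFinite S
  have hB := h.toYB
  have one : ∀ x ∈ O, x ∈ stab2 G a b → x = 1 := fun x h1 h2 => mem_bot.1 (hOK ▸ mem_inf.2 ⟨h1, h2⟩)
  have hp : IsPGroup 2 S := fun s => ⟨1, Subtype.ext (by simpa [sq] using h.sq s s.2)⟩
  obtain ⟨κ, hκ⟩ := IsPGroup.iff_card.1 hp
  have big := h.big
  obtain ⟨n, hn⟩ : ∃ n, Nat.card S = 2 * n + 2 := by
    rcases κ with _ | κ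
    · omega
    · exact ⟨2 ^ κ - 1, by have := Nat.one_le_two_pow (n := κ); rw [hκ, pow_succ]; omega⟩
  have hS : stab2 G a b ⊓ centralizer ({t} : Set G) = S :=
    le_antisymm (fun k hk => h.cent t h.tS hB.t1 k hk.1 (commC hk.2))
      fun s hs => ⟨h.SK hs, memC (Reg.comm_of_sq h.sq hs h.tS)⟩
  have h1 := hB.f2_card
  have h2 := hB.sw_card
  have h3 := hB.cnt.2
  have h4 : 4 ≤ Nat.card ↥(stab2 G a b ⊓ centralizer ({I} : Set G)) := by
    refine le_trans ?_ (card_le_of_le (inf_le_inf_right _ h.SK))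
    have := h.half
    by_contra hlt
    have : Nat.card ↥(S ⊓ centralizer ({I} : Set G)) ^ 2 ≤ 3 ^ 2 := Nat.pow_le_pow_left (by omega) 2
    omega
  -- the centralisers in `O`
  have hc : ∀ k ∈ stab2 G a b, k * k = 1 → k ≠ 1 → Nat.card ↥(O ⊓ centralizer ({k} : Set G)) =
      Nat.card ↥(O ⊓ centralizer ({t} : Set G)) := fun k hk k2 k1 => by
    obtain ⟨g, hg, rfl⟩ := hB.conjK k hk k2 k1
    rw [← ncard_coe, ← ncard_coe]
    refine ncard_conj (C := stabilizer G a) (D := (O : Set G)) hOn hg.1 (· ∈ centralizer ({t} : Set G))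
      (· ∈ centralizer ({g * t * g⁻¹} : Set G)) fun s => ⟨fun e => memC ?_, fun e => memC ?_⟩
    · calc s * t = g⁻¹ * (g * s * g⁻¹ * (g * t * g⁻¹)) * g := by group
        _ = _ := by rw [commC e]; group
    · calc _ = g * (s * t) * g⁻¹ := by group
        _ = _ := by rw [commC e]; group
  have hi : ∀ k ∈ stab2 G a b, k * k = 1 → Nat.card O = Nat.card ↥(O ⊓ centralizer ({k} : Set G)) *
      (Cfsg.invertedBy O k).ncard := fun k hk k2 => by
    rw [← Nat.card_coe_set_eq]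
    exact RankOne.card_eq_centralizer_mul_inverted k2 hO (hOn k hk.1)
  have hω := hi t hB.tK hB.tt
  have h5 := dc (Set.toFinite (f1 (cl t) a)) (Set.toFinite (f2 (cl t) a b)) (fun u k => k⁻¹ * u ∈ O) (m := 1)
    (n := (Cfsg.invertedBy O t).ncard) (fun u hu => ?_) fun k hk => ?_
  · have h6 := card_dvd_of_free_on (O ⊓ centralizer ({t} : Set G)) (fixedBy Ω t \ {a})
      (fun g hg x hx => ⟨smul_fix_of_comm (commC hg.2) hx.1, fun e => hx.2 (by
        have e' : g • x = g • a := e.trans (hOa hg.1).symm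
        exact smul_left_cancel g e')⟩) fun g hg x hx e => by
        obtain ⟨u, ha, hb⟩ := exists_smul_pair hB.two hB.hab (fun e : a = x => hx.2 e.symm)
        have := one _ (hOn u⁻¹ (inv_smul_eq_iff.2 ha.symm) g hg.1) ⟨by
          show _ • a = a
          rw [inv_inv, mul_smul, mul_smul, ha, show g • a = a from hOa hg.1, inv_smul_eq_iff, ha], by
          show _ • b = b
          rw [inv_inv, mul_smul, mul_smul, hb, e, ← hb, inv_smul_smul]⟩
        simpa [mul_assoc] using congrArg (fun y => u * y * u⁻¹) this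
    rw [Set.ncard_diff_singleton_of_mem hB.aF] at h6
    have h7 := Fgs.wielandt_exponent (B := S) (H := O) Nat.prime_two (fun s hs => by rw [sq, h.sq s hs])
      (fun s hs => mem_normalizer_fintype fun o ho => hOn s (h.SK hs).1 o ho) (FT.odd_order_solvable hO)
      (hκ ▸ (Nat.coprime_two_right.2 hO).pow_right κ)
    rw [Finset.prod_congr rfl fun (s : S) hs => by
      rw [hc s (h.SK s.2) (h.sq s s.2) fun e => Finset.ne_of_mem_erase hs (Subtype.ext e)], Finset.prod_const,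
      Finset.card_erase_of_mem (Finset.mem_univ _), Finset.card_univ, ← Nat.card_eq_fintype_card] at h7
    obtain ⟨e, he⟩ : Nat.card ↥(O ⊓ centralizer (S : Set G)) ∣ Nat.card ↥(O ⊓ centralizer ({t} : Set G)) :=
      card_dvd_of_le (inf_le_inf_left _ (centralizer_le (Set.singleton_subset_iff.2 h.tS)))
    obtain ⟨j, hj⟩ := (Dvd.intro_left _ he.symm).trans h6
    have h8 := hB.two_le
    have h9 : 0 < Nat.card (stab2 G a b) := Nat.card_pos
    have h10 : 0 < Nat.card ↥(O ⊓ centralizer ({t} : Set G)) := Nat.card_pos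
    rw [hS] at h1
    rw [hn, show 2 * n + 2 - 1 = 2 * n + 1 by omega] at hK
    refine ye2_arith (n := n) (c := Nat.card ↥(O ⊓ centralizer (S : Set G))) (e := e)
      (ω := (Cfsg.invertedBy O t).ncard) (k := (f2 (cl t) a b).ncard) (d := (sw (cl t) a b).ncard) (j := j)
      (by omega) Nat.card_pos (Nat.pos_of_ne_zero fun e0 => by rw [e0, mul_zero] at he; omega) (Nat.odd_mul.1 (hω ▸ hO)).2 ?_ ?_
      (Nat.pos_of_ne_zero fun e0 => by rw [e0, zero_mul] at h2; omega) ?_ ?_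
    · rw [← he, ← hω]
      rw [hn, show 2 * n + 2 - 1 = 2 * n + 1 by omega, show (2 - 1) * (2 * n + 2) = 2 * n + 2 by omega] at h7
      exact h7
    · rw [← h5, mul_one, h3, ← hj]
      congr 2
      omega
    · refine Nat.eq_of_mul_eq_mul_right (show 0 < 2 * n + 2 by omega) ?_
      rw [← hn, h1, hK, hn]
      ring
    · rw [← hK, ← h2, mul_comm]
      exact Nat.mul_le_mul_left _ h4
  · have u2 := mul_self_of_isConj hB.tt hu.1
    obtain ⟨k, hk, o, ho, rfl⟩ := hsoc u hu.2 u2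
    have k2 : k * k = 1 := one _ (by
      have : k * k = (k⁻¹ * o * k⁻¹⁻¹ * o)⁻¹ := by
        calc k * k = k * o * (k * o) * (k⁻¹ * o * k⁻¹⁻¹ * o)⁻¹ * (k⁻¹ * o * k⁻¹⁻¹ * o) *
            (k⁻¹ * o * k⁻¹⁻¹ * o)⁻¹ * (k⁻¹ * o * k⁻¹⁻¹ * o) * (k⁻¹ * o * k⁻¹⁻¹ * o)⁻¹ := by group
          _ = _ := by rw [u2]; group
      rw [this]
      exact inv_mem (mul_mem (hOn _ (inv_mem hk).1 o ho) ho)) (mul_mem hk hk)
    have k1 : k ≠ 1 := by
      rintro rfl
      rw [one_mul] at u2 hu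
      exact ne_one_of_isConj hB.t1 hu.1 (RankOne.eq_one_of_mul_self_eq_one hO ho u2)
    rw [Set.ncard_eq_one]
    refine ⟨k, Set.eq_singleton_iff_unique_mem.2 ⟨⟨⟨hB.one k2 k1, hk⟩, by simpa using ho⟩, fun x hx => ?_⟩⟩
    exact inv_mul_eq_one.1 (one _ (by simpa [mul_assoc] using mul_mem hx.2 (inv_mem ho))
      (mul_mem (inv_mem (show x ∈ stab2 G a b from hx.1.2)) hk))
  · have k2 := mul_self_of_isConj hB.tt hk.1
    have k1 := ne_one_of_isConj hB.t1 hk.1
    have e := hi k hk.2 k2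
    rw [hc k hk.2 k2 k1, hω, Nat.mul_right_inj Nat.card_pos.ne'] at e
    rw [e]
    symm
    refine Set.ncard_congr (fun o _ => k * o) (fun o ho => ⟨⟨hB.one ?_ fun e => k1 (one k ?_ hk.2), ?_⟩, ?_⟩)
      (fun _ _ _ _ e => mul_left_cancel e) fun u hu => ⟨k⁻¹ * u, ⟨hu.2, ?_⟩, by simp⟩
    · calc _ = k * o * k⁻¹ * (k * k) * o := by group
        _ = 1 := by rw [ho.2, k2]; group
    · rw [eq_inv_of_mul_eq_one_left e]
      exact inv_mem ho.1
    · rw [mul_smul, show o • a = a from hOa ho.1, hk.2.1]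
    · simpa using ho.1
    · rw [mul_inv_rev, inv_eq_of_mul_eq_one_right (mul_self_of_isConj hB.tt hu.1.1),
        inv_eq_of_mul_eq_one_right k2, inv_eq_of_mul_eq_one_right k2, ← mul_assoc, k2, one_mul]

end CfsgLib.TPS
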