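import Cfsg.Agent.Lib.TPS.YDefs
import Cfsg.Agent.Lib.GW.KPSLc
import Cfsg.Agent.Lib.Kim.D4

/-! S3400, package YO0: the set-up of type Y for `L₂(q)`, `q` odd.  See `plans/TPSY.md`. -/

set_option autoImplicit false
set_option linter.unusedSectionVars false

namespace CfsgLib.TPS

open Subgroup MulAction CfsgLib.Perm CfsgLib.Kim CfsgLib.DihSyl

variable {G : Type*} [Group G] [Finite G] {Ω : Type*} [Finite Ω] [MulAction G Ω]

private theorem yo0_ord {u : G} (h2 : u * u = 1) (h1 : u ≠ 1) : orderOf u = 2 :=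
  orderOf_eq_prime (by rw [pow_two, h2]) h1

private theorem yo0_comm {u v : G} (hu : u * u = 1) (hv : v * v = 1) (h : u * v * (u * v) = 1) : u * v = v * u := by
  rw [eq_inv_of_mul_eq_one_left h, mul_inv_rev, inv_eq_of_mul_eq_one_right hu, inv_eq_of_mul_eq_one_right hv]

private theorem yo0_key {a b : Ω} {S : Subgroup G} {t I : G} (h : YC a b S t I) (hs : Sab (stab2 G a b) S)
    (h4 : Nat.card S = 4) {u v g : G} (uK : u ∈ stab2 G a b) (vK : v ∈ stab2 G a b) (u2 : u * u = 1) (v2 : v * v = 1)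
    (u1 : u ≠ 1) (v1 : v ≠ 1) (ne : u ≠ v) (c : u * v = v * u) (gu : g * u = u * g) (gv : g * v = v * g) :
    (g ∈ stab2 G a b → g = 1 ∨ g = u ∨ g = v ∨ g = u * v) ∧ ¬ (g • a = b ∧ g • b = a) := by
  have := Fact.mk Nat.prime_two
  obtain ⟨V, hV, m⟩ := D4.exists_V (yo0_ord u2 u1) (yo0_ord v2 v1) ne c
  have syl : Tech.IsSylowIn 2 S (stab2 G a b) := ⟨hs.le, hs.two, hs.odd.not_two_dvd_nat⟩
  obtain ⟨k, hk, le⟩ := syl.exists_cj_le (Q := V) (IsPGroup.of_card (n := 2) hV.card_four) fun x hx => by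
    rcases (m x).1 hx with rfl | rfl | rfl | rfl
    exacts [one_mem _, uK, vK, mul_mem uK vK]
  have e : Tech.cj k V = S := eq_of_le_of_card_ge le (by rw [Tech.card_cj, hV.card_four, h4])
  have cen : ∀ s ∈ S, s * (k * g * k⁻¹) = k * g * k⁻¹ * s := fun s hs => by
    have : g * (k⁻¹ * s * k) = k⁻¹ * s * k * g := by
      rcases (m _).1 (Tech.mem_cj.1 (e.ge hs)) with e | e | e | e <;> rw [e]
      exacts [by simp, gu, gv, by rw [← mul_assoc, gu, mul_assoc, gv, mul_assoc]]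
    calc s * (k * g * k⁻¹) = k * (k⁻¹ * s * k * g) * k⁻¹ := by group
      _ = _ := by rw [← this]; group
  refine ⟨fun gK => (m g).1 (Tech.conj_mem_cj.1 (e.ge (hs.cent.le (mem_inf.2 ⟨mul_mem (mul_mem hk gK) (inv_mem hk), cen⟩)))),
    fun ⟨ga, gb⟩ => ?_⟩
  obtain ⟨s, hs, ne⟩ := h.noX (k * g * k⁻¹) (by rw [mul_smul, mul_smul, (inv_mem hk).1, ga, hk.2])
    (by rw [mul_smul, mul_smul, (inv_mem hk).2, gb, hk.1])
  exact ne (cen s hs).symm

private theorem yo0_tri {a b : Ω} {S : Subgroup G} {t I : G} (h : YC a b S t I) (hs : Sab (stab2 G a b) S)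
    (h4 : Nat.card S = 4) {u g c : G} (uK : u ∈ stab2 G a b) (hg : g • a = b ∧ g • b = a) (hc : c ∈ pairStab G a b)
    (u2 : u * u = 1) (g2 : g * g = 1) (c2 : c * c = 1) (u1 : u ≠ 1) (gu : g * u = u * g) (cu : c * u = u * c)
    (cg : c * g = g * c) : c = 1 ∨ c = u ∨ c = g ∨ c = g * u := by
  by_contra! n
  rcases hc with hc | hc
  · exact (yo0_key h hs h4 uK hc u2 c2 u1 n.1 n.2.1.symm cu.symm gu cg.symm).2 hg
  · refine (yo0_key h hs h4 uK (mul_mem_stab2_of_swap hg.1 hg.2 hc.1 hc.2) u2 ?_ u1 (fun e => n.2.2.1 ?_)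
      (fun e => n.2.2.2 ?_) ?_ gu ?_).2 hg
    · rw [mul_assoc, ← mul_assoc c, cg, mul_assoc, c2, mul_one, g2]
    · rw [eq_inv_of_mul_eq_one_right e, inv_eq_of_mul_eq_one_right g2]
    · rw [e, ← mul_assoc, g2, one_mul]
    · rw [← mul_assoc, ← gu, mul_assoc, ← cu, mul_assoc]
    · rw [mul_assoc, cg]

theorem YC.exists_YO {a b : Ω} {S : Subgroup G} {t I : G} (h : YC a b S t I)
    (hs : Sab (stab2 G a b) S) (h4 : Nat.card S = 4) {r q : ℕ} (h3 : 3 ≤ r)
    (ho : TyO (stab2 G a b) r q) : ∃ (s x : G) (μ β q' : ℕ), YO a b t I s x μ β q' := by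
  let Y := pairStab G a b
  have hle : stab2 G a b ≤ Y := fun g hg => Or.inl hg
  let L := (stab2 G a b).subgroupOf Y
  have hL : L.Normal := ⟨by
    rintro n hn ⟨g, hg | hg⟩
    · exact (stab2 G a b).mul_mem ((stab2 G a b).mul_mem hg hn) ((stab2 G a b).inv_mem hg)
    · exact conj_mem_stab2_of_swap hg.1 hg.2 hn⟩
  have hC : centralizer (L : Set Y) = ⊥ := eq_bot_iff.2 fun g hg => by
    have c : ∀ k ∈ stab2 G a b, k * g = g * k := fun k hk => congrArg Subtype.val (hg ⟨k, hle hk⟩ hk)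
    rcases g.2 with m | m
    · have := hs.simple
      rcases (inferInstance : (center (stab2 G a b)).Normal).eq_bot_or_eq_top with e | e
      · exact Subtype.ext (congrArg Subtype.val (mem_bot.1 (e.le (mem_center_iff.2 fun k =>
          Subtype.ext (c k k.2) : (⟨g, m⟩ : stab2 G a b) ∈ center _))) :)
      · exact absurd ⟨⟨fun x y => mem_center_iff.1 (e.ge (mem_top y)) x⟩⟩ hs.ncomm
    · obtain ⟨s, hs, ne⟩ := h.noX g m.1 m.2
      exact absurd (c s (h.SK hs)).symm ne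
  have hY : GW.KP.NoE8 Y := fun u v c hu hv ne vu c2 cu cv => by
    have sq : ∀ w : Y, orderOf w = 2 → (w : G) * w = 1 ∧ (w : G) ≠ 1 := fun w hw =>
      ⟨congrArg Subtype.val (show w * w = 1 by rw [← pow_two, ← hw, pow_orderOf_eq_one]),
        fun e => by rw [show w = 1 from Subtype.ext e, orderOf_one] at hw; omega⟩
    obtain ⟨u2, u1⟩ := sq u hu
    obtain ⟨v2, v1⟩ := sq v hv
    have vu' : (v : G) * u = u * v := congrArg Subtype.val (commC vu)
    have cu' : (c : G) * u = u * c := congrArg Subtype.val (commC cu)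
    have cv' : (c : G) * v = v * c := congrArg Subtype.val (commC cv)
    have c2' : (c : G) * c = 1 := congrArg Subtype.val c2
    have ne' : (u : G) ≠ v := fun e => ne (Subtype.ext e.symm)
    simp only [Subtype.ext_iff, coe_mul, coe_one]
    rcases u.2 with mu | mu <;> rcases v.2 with mv | mv
    · obtain ⟨k1, k2⟩ := yo0_key h hs h4 mu mv u2 v2 u1 v1 ne' vu'.symm cu' cv'
      exact k1 (c.2.resolve_right k2)
    · rw [← vu']; exact yo0_tri h hs h4 mu mv c.2 u2 v2 c2' u1 vu' cu' cv'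
    · have := yo0_tri h hs h4 mv mu c.2 v2 u2 c2' v1 vu'.symm cv' cu'
      tauto
    · have := yo0_tri h hs h4 (mul_mem_stab2_of_swap mu.1 mu.2 mv.1 mv.2) mu c.2
        (by rw [mul_assoc, ← mul_assoc (v : G), vu', mul_assoc, v2, mul_one, u2]) u2 c2'
        (fun e => ne' (by rw [eq_inv_of_mul_eq_one_left e, inv_eq_of_mul_eq_one_right v2]))
        (by rw [mul_assoc, vu']) (by rw [← mul_assoc, cu', mul_assoc, cv', mul_assoc]) cu'
      rw [← mul_assoc (u : G) u, u2, one_mul] at this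
      tauto
  obtain ⟨F, _, _, hF, ⟨e⟩⟩ := ho.iso
  have := ho.five_le
  have := ho.num
  obtain ⟨α, β, f⟩ := GW.KP.l2Facts_of_noE8 hY L hC (F := F) (by rw [hF, Nat.odd_iff]; omega) (by omega)
    ((subgroupOfEquivOfLe hle).trans e)
  rw [hF] at f
  have mp : ∀ u : Y, (L ⊓ GW.Hc u).map Y.subtype = stab2 G a b ⊓ centralizer ({(u : G)} : Set G) := fun u =>
    Subgroup.ext fun g => ⟨by rintro ⟨g, hg, rfl⟩; exact ⟨hg.1, memC (congrArg Subtype.val (commC hg.2))⟩,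
      fun hg => ⟨⟨g, hle hg.1⟩, ⟨hg.1, memC (Subtype.ext (commC hg.2))⟩, rfl⟩⟩
  have ord : ∀ u : Y, (u : G) * u = 1 → (u : G) ≠ 1 → orderOf u = 2 := fun u h2 h1 => by
    rw [← orderOf_coe, yo0_ord h2 h1]
  obtain ⟨x, w, T⟩ := f.tor_in ⟨t, hle h.tK⟩ h.tK (ord _ h.tt h.t1)
  obtain ⟨x', w', T'⟩ := f.tor_out ⟨I, Or.inr ⟨h.Ia, h.Ib⟩⟩ (fun e => h.hab (e.1.symm.trans h.Ia)) (ord _ h.II h.I1)
  have D := GW.isDih_map_of_injOn T.dih Y.subtype fun x _ hx => Subtype.ext hx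
  have D' := GW.isDih_map_of_injOn T'.dih Y.subtype fun x _ hx => Subtype.ext hx
  rw [mp, coe_subtype] at D D'
  obtain ⟨y, w0, D0, -⟩ := ho.tor t h.tK (yo0_ord h.tt h.t1)
  obtain rfl : α = 2 * r := by have := D.card.symm.trans D0.card; omega
  have tx : t ∈ zpowers (x : G) := let ⟨i, hi⟩ := T.t_mem h.tK; ⟨i, congrArg Subtype.val hi⟩
  obtain ⟨s, sS, ns⟩ : ∃ s ∈ S, s ∉ zpowers t := SetLike.not_le_iff_exists.1 fun e => by
    have := card_le_of_le e
    rw [h4, Nat.card_zpowers, yo0_ord h.tt h.t1] at this; omega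
  have s1 : s ≠ 1 := fun e => ns (e ▸ one_mem _)
  have st : s ≠ t := fun e => ns (e ▸ mem_zpowers _)
  have ts : t * s = s * t := yo0_comm h.tt (h.sq s sS) (h.sq _ (mul_mem h.tS sS))
  obtain ⟨V, hV, m⟩ := D4.exists_V (yo0_ord h.tt h.t1) (yo0_ord (h.sq s sS) s1) st.symm ts
  obtain rfl : V = S := eq_of_le_of_card_ge (fun g hg => by
    rcases (m g).1 hg with rfl | rfl | rfl | rfl
    exacts [one_mem _, h.tS, sS, mul_mem h.tS sS]) (by rw [hV.card_four, h4])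
  have noX : ∀ u : G, u • a = b → u • b = a → u * t = t * u → u * s ≠ s * u := fun u ua ub ut us => by
    obtain ⟨g, hg, ne⟩ := h.noX u ua ub
    rcases (m g).1 hg with rfl | rfl | rfl | rfl
    exacts [ne (by simp), ne ut, ne us, ne (by rw [← mul_assoc, ut, mul_assoc, us, mul_assoc])]
  obtain ⟨j, e | e⟩ := (D.mem s).1 ⟨h.SK sS, memC ts.symm⟩
  · exact absurd (D.eq_of_sq ⟨j, e.symm⟩ tx (h.sq s sS) h.tt s1 h.t1) st
  refine ⟨s, x, r, β, q, h.toYB, ⟨D.ord, h.sq s sS, ?_, e ▸ D.rpows_notMem j, fun g => (D.mem g).trans ?_⟩, ?_, ho.odd, h3, ?_, noX,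
    fun u u2 ua ub ut => congrArg Subtype.val (T.inv ⟨u, Or.inr ⟨ua, ub⟩⟩
      (ord _ u2 fun e => h.hab (by rw [← ua, show u = 1 from e, one_smul]))
      (fun e => h.hab (by rw [← ua, show u = t from congrArg Subtype.val e, h.tK.1])) (memC (Subtype.ext ut))),
    ?_, D'.card, f.num.cop.coprime_mul_left_right, f.num.le_b⟩
  · have := D.rpows_conj_rpow j 1
    rwa [← e, zpow_one, zpow_neg_one] at this
  · refine ⟨fun ⟨i, k⟩ => k.elim (fun k => ⟨i, Or.inl k⟩) fun k => ⟨i - j, Or.inr ?_⟩,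
      fun ⟨i, k⟩ => k.elim (fun k => ⟨i, Or.inl k⟩) fun k => ⟨i + j, Or.inr ?_⟩⟩
    · rw [k, e, ← mul_assoc, ← zpow_add, sub_add_cancel]
    · rw [k, e, ← mul_assoc, ← zpow_add]
  · obtain ⟨k1, k2⟩ := D.half rfl (by omega)
    rw [zpow_natCast] at k1 k2
    exact D.eq_of_sq (pow_mem (mem_zpowers _) r) tx k1 h.tt k2 h.t1
  · rcases (m _).1 (h.norm s sS) with k | k | k | k
    · exact absurd (by simpa using k) s1
    · exact absurd (mul_left_cancel ((mul_inv_eq_iff_eq_mul.1 k).trans h.It.symm)) st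
    · exact absurd (mul_inv_eq_iff_eq_mul.1 k) (noX I h.Ia h.Ib h.It)
    · exact k
  · rw [← Nat.card_congr (subgroupOfEquivOfLe hle).toEquiv, f.card]; ring

end CfsgLib.TPS
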