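import Cfsg.Agent.Lib.TPS.YDefs
import Cfsg.Agent.Lib.GW.Main
import Cfsg.Agent.Lib.GW.Cor1
import Cfsg.Agent.Lib.GW.KPSL
import Cfsg.Agent.Lib.GW.KA7a
import Cfsg.Agent.Lib.Tech.SylowIn

/-! S3400, package YO1: type Y, `L₂(q)` with `q` odd, odd degree, `Fix t = Fix S`.  See `plans/TPSY.md`. -/

set_option autoImplicit false
set_option linter.unusedSectionVars false

namespace CfsgLib.TPS

open Subgroup MulAction CfsgLib.Perm CfsgLib.Kim CfsgLib.DihSyl

variable {G : Type*} [Group G] [Finite G] {Ω : Type*} [Finite Ω] [MulAction G Ω]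
  {a b : Ω} {t I s x : G} {μ β q : ℕ}

theorem yo1_dih {a b : G} (aa : a * a = 1) (bb : b * b = 1) (h2 : (a * b) ^ 2 ≠ 1) (h4 : (a * b) ^ 4 = 1) :
    IsDih (closure {a, b}) 4 (a * b) a := by
  have ia := inv_eq_of_mul_eq_one_right aa
  have c : a * (a * b) * a⁻¹ = (a * b)⁻¹ := by rw [← mul_assoc, aa, one_mul, mul_inv_rev, inv_eq_of_mul_eq_one_right bb]
  have c' : ∀ i : ℤ, a * (a * b) ^ i = (a * b) ^ (-i) * a := fun i => by
    rw [← mul_inv_eq_iff_eq_mul, ← conj_zpow, c, inv_zpow']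
  have ma : a ∈ closure {a, b} := subset_closure (by simp)
  have mr : ∀ i : ℤ, (a * b) ^ i ∈ closure {a, b} := fun i => zpow_mem (mul_mem ma (subset_closure (by simp))) i
  refine ⟨orderOf_eq_prime_pow (p := 2) (n := 1) h2 h4, aa, c, fun ⟨i, e⟩ => h2 ?_, fun g => ⟨fun hg => ?_, ?_⟩⟩
  · have : Commute a (a * b) := by nth_rw 1 [← e]; exact (Commute.refl _).zpow_left i
    rw [this.eq, mul_inv_cancel_right] at c
    rw [pow_two, mul_eq_one_iff_eq_inv, ← c]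
  · induction hg using closure_induction_left with
    | one => exact ⟨0, .inl (zpow_zero _).symm⟩
    | mul_left x hx y _ h =>
      obtain ⟨i, rfl | rfl⟩ := h <;> rcases hx with rfl | rfl
      · exact ⟨-i, .inr (c' i)⟩
      · exact ⟨-(1 + i), .inr (by rw [← c', zpow_one_add, ← mul_assoc, ← mul_assoc, aa, one_mul])⟩
      · exact ⟨-i, .inl (by rw [← mul_assoc, c', mul_assoc, aa, mul_one])⟩
      · exact ⟨-(1 + i), .inl (by
          rw [← mul_inv_eq_iff_eq_mul.2 (c' _), zpow_one_add, ← mul_assoc a, ← mul_assoc a, aa, one_mul, ia, mul_assoc])⟩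
    | inv_mul_cancel x hx y _ h =>
      obtain ⟨i, rfl | rfl⟩ := h <;> rcases hx with rfl | rfl <;> rw [inv_eq_of_mul_eq_one_right (by assumption)]
      · exact ⟨-i, .inr (c' i)⟩
      · exact ⟨-(1 + i), .inr (by rw [← c', zpow_one_add, ← mul_assoc, ← mul_assoc, aa, one_mul])⟩
      · exact ⟨-i, .inl (by rw [← mul_assoc, c', mul_assoc, aa, mul_one])⟩
      · exact ⟨-(1 + i), .inl (by
          rw [← mul_inv_eq_iff_eq_mul.2 (c' _), zpow_one_add, ← mul_assoc a, ← mul_assoc a, aa, one_mul, ia, mul_assoc])⟩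
  · rintro ⟨i, rfl | rfl⟩
    exacts [mr i, mul_mem (mr i) ma]

/-- conjugating an element that is trivial on `Fix t` -/
theorem yo1_conj {g u : G} (hg : g * t = t * g) (hu : ∀ c ∈ fixedBy Ω t, u • c = c) :
    ∀ c ∈ fixedBy Ω t, (g * u * g⁻¹) • c = c := fun c hc => by
  have : g⁻¹ • c ∈ fixedBy Ω t := smul_fix_of_comm (commC (inv_mem (memC hg))) hc
  rw [mul_smul, mul_smul, hu _ this, smul_inv_smul]

namespace YO

variable (h : YO a b t I s x μ β q)
include h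

theorem yo1_st : s * t = t * s := commC h.dih.s_mem.2

theorem yo1_tx : t ∈ zpowers x := h.xt ▸ pow_mem (mem_zpowers x) μ

theorem yo1_s1 : s ≠ 1 := fun e => h.dih.notMem (e ▸ one_mem _)

theorem yo1_s2 : s ≠ t := fun e => h.dih.notMem (e ▸ h.yo1_tx)

theorem yo1_R (j : ℤ) : ∃ c ∈ zpowers x, x ^ j * s = c * s * c⁻¹ ∨ x ^ j * s = t * (c * s * c⁻¹) := by
  have k : ∀ k : ℤ, x ^ k * s * (x ^ k)⁻¹ = x ^ (2 * k) * s := fun k => by
    simpa using h.dih.rpow_conj_rpows k 0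
  obtain ⟨m, hm⟩ := h.odd
  rcases Int.even_or_odd' j with ⟨i, e | e⟩
  · exact ⟨x ^ i, zpow_mem (mem_zpowers x) i, Or.inl (by rw [k, e])⟩
  · refine ⟨x ^ (i - m), zpow_mem (mem_zpowers x) _, Or.inr ?_⟩
    rw [k, ← h.xt, ← mul_assoc, ← zpow_natCast, ← zpow_add, e, hm]
    congr 2
    push_cast
    ring

theorem yo1_refl {r : G} (hr : r ∈ stab2 G a b ⊓ centralizer ({t} : Set G)) (r2 : r * r = 1) (r1 : r ≠ 1) (rt : r ≠ t) :
    ∃ j : ℤ, r = x ^ j * s := by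
  obtain ⟨j, e | e⟩ := (h.dih.mem r).1 hr
  · exact absurd (h.dih.eq_of_sq (e ▸ zpow_mem (mem_zpowers x) j) h.yo1_tx r2 h.tt r1 h.t1) rt
  · exact ⟨j, e⟩

theorem yo1_V {g : G} (hg : g ∈ stab2 G a b ⊓ centralizer ({t} : Set G)) (hc : g * s = s * g) :
    g = 1 ∨ g = t ∨ g = s ∨ g = t * s := by
  obtain ⟨c, hc, c2, e⟩ := h.dih.of_commute_rpows hg (i := 0) (by simpa using hc)
  rw [zpow_zero, one_mul] at e
  by_cases c1 : c = 1
  · rw [c1, one_mul] at e; tauto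
  · rw [h.dih.eq_of_sq hc h.yo1_tx c2 h.tt c1 h.t1] at e; tauto

theorem yo1_mem {g : G} (hg : g * t = t * g) (hu : ∀ c ∈ fixedBy Ω t, g • c = c) :
    g ∈ stab2 G a b ⊓ centralizer ({t} : Set G) := ⟨⟨hu a h.toYB.aF, hu b h.toYB.bF⟩, memC hg⟩

theorem yo1_fix (hF : ∀ c ∈ fixedBy Ω t, s • c = c) {g : G} (hg : g ∈ stab2 G a b ⊓ centralizer ({t} : Set G)) :
    ∀ c ∈ fixedBy Ω t, g • c = c := by
  have k : ∀ j : ℤ, ∀ c ∈ fixedBy Ω t, (x ^ j * s) • c = c := fun j c hc => by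
    obtain ⟨d, hd, e | e⟩ := h.yo1_R j <;> rw [e]
    · exact yo1_conj (commC (h.dih.zpowers_le hd).2) hF c hc
    · rw [mul_smul, yo1_conj (commC (h.dih.zpowers_le hd).2) hF c hc]; exact hc
  intro c hc
  obtain ⟨j, e | e⟩ := (h.dih.mem g).1 hg <;> rw [e]
  · have := k j c hc
    rwa [mul_smul, hF c hc] at this
  · exact k j c hc

/-- a 2-element centralising `t` and `s` lies in `⟨t, s⟩` -/
theorem yo1_two (hF : ∀ c ∈ fixedBy Ω t, s • c = c) {u : G} {k : ℕ} (hk : u ^ 2 ^ k = 1) (ut : Commute u t)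
    (us : Commute u s) : u = 1 ∨ u = t ∨ u = s ∨ u = t * s := by
  by_contra hu
  obtain ⟨m, h1, h2⟩ := od_exists_sq (p := fun g => g = 1 ∨ g = t ∨ g = s ∨ g = t * s) (Or.inl rfl) hk hu
  have wt := ut.pow_left m
  have ws := us.pow_left m
  generalize u ^ m = w at *
  obtain ⟨c, hc, e⟩ : ∃ c ∈ fixedBy Ω t, w • c ≠ c := by
    by_contra k
    push Not at k
    exact h1 (h.yo1_V (h.yo1_mem wt k) ws)
  have e2 : w • w • c = c := by
    rw [← mul_smul]
    rcases h2 with e | e | e | e <;> rw [e]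
    exacts [one_smul _ _, hc, hF c hc, by rw [mul_smul, hF c hc]; exact hc]
  obtain ⟨g, hg, g1, g2⟩ := od_conj_sw h.toYB.tC h.toYB.aF h.toYB.bF h.hab (memC wt) hc e e2
  have gt := commC hg
  obtain ⟨j, e3⟩ := h.yo1_refl (h.yo1_mem (od_conj_comm gt h.yo1_st) (yo1_conj gt hF)) (conj_mul_self h.dih.ss g)
    (fun e => h.yo1_s1 (conj_eq_one_iff.1 e)) fun e => h.yo1_s2 (by
      rw [← mul_inv_eq_iff_eq_mul.2 gt] at e
      exact mul_left_cancel (mul_right_cancel e))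
  obtain ⟨d, hd, e4⟩ := h.yo1_R j
  have dK := h.dih.zpowers_le hd
  have w1 : Commute (g * w * g⁻¹) t := od_conj_comm gt wt
  have w2 : Commute (g * w * g⁻¹) (d * s * d⁻¹) := by
    have w3 : Commute (g * w * g⁻¹) (g * s * g⁻¹) := ws.conj g
    rw [e3] at w3
    rcases e4 with e | e <;> rw [e] at w3
    · exact w3
    · have := w1.inv_right.mul_right w3
      rwa [inv_mul_cancel_left] at this
  generalize g * w * g⁻¹ = w' at *
  refine h.noX (d⁻¹ * w' * d) ?_ ?_ ?_ ?_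
  · rw [mul_smul, mul_smul, show d • a = a from dK.1.1, g1, inv_smul_eq_iff, show d • b = b from dK.1.2]
  · rw [mul_smul, mul_smul, show d • b = b from dK.1.2, g2, inv_smul_eq_iff, show d • a = a from dK.1.1]
  · simpa using od_conj_comm (commC (inv_mem dK.2)) w1
  · have := w2.conj d⁻¹
    simpa [mul_assoc] using this.eq

theorem yo1_syl (hF : ∀ c ∈ fixedBy Ω t, s • c = c) : GW.DihSylow G := by
  have : Fact (Nat.Prime 2) := ⟨Nat.prime_two⟩
  have yy : s * I * (s * I) = t := by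
    calc s * I * (s * I) = s * (I * s * I⁻¹) := by rw [h.toYB.Iinv]; group
      _ = t := by rw [h.Is, ← h.yo1_st, ← mul_assoc, h.dih.ss, one_mul]
  have D := yo1_dih h.dih.ss h.II (by rw [pow_two, yy]; exact h.t1)
    (by rw [show 4 = 2 * 2 from rfl, pow_mul, pow_two, pow_two, yy, h.tt])
  have IT : I ∈ closure ({s, I} : Set G) := subset_closure (by simp)
  generalize closure ({s, I} : Set G) = T at *
  have Tp : IsPGroup 2 T := IsPGroup.of_card (n := 3) D.card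
  obtain ⟨P, hP⟩ := Tp.exists_le_sylow
  refine ⟨P, 4, s * I, s, by norm_num, ?_⟩
  rcases hP.eq_or_lt with e | e
  · exact e ▸ D
  exfalso
  obtain ⟨u, uP, uT, uN⟩ := Tech.exists_mem_normalizer_of_lt P.isPGroup' e
  have tY : t ∈ zpowers (s * I) := yy ▸ mul_mem (mem_zpowers _) (mem_zpowers _)
  have ut : u * t = t * u := by
    have e1 : u * (s * I) * u⁻¹ * (u * (s * I) * u⁻¹) = u * t * u⁻¹ := by rw [conj_mul, yy]
    have n1 : u * t * u⁻¹ ≠ 1 := fun e => h.t1 (conj_eq_one_iff.1 e)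
    have m1 := D.mem_zpowers_of_sq_ne_one (Tech.conj_mem_of_mem_normalizer uN D.r_mem) (e1 ▸ n1)
    exact mul_inv_eq_iff_eq_mul.1 (D.eq_of_sq (e1 ▸ mul_mem m1 m1) tY (conj_mul_self h.tt u) h.tt n1 h.t1)
  have f := yo1_conj ut hF
  have ev : ∀ i : ℤ, (s * I) ^ i • a = a → Commute ((s * I) ^ i) s := fun i hi => by
    have k : ∀ m : ℤ, (s * I) ^ (2 * m) = t ^ m := fun m => by rw [zpow_mul, zpow_two, yy]
    rcases Int.even_or_odd' i with ⟨m, e | e⟩ <;> rw [e] at hi ⊢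
    · rw [k]; exact (show Commute t s from h.yo1_st.symm).zpow_left m
    · rw [zpow_add_one, k, mul_smul, mul_smul, h.Ia, hF b h.toYB.bF,
        show t ^ m • b = b from (zpow_mem h.tK m).2] at hi
      exact absurd hi.symm h.hab
  have cs : u * s * u⁻¹ * s = s * (u * s * u⁻¹) := by
    have fa := f a h.toYB.aF
    obtain ⟨i, e | e⟩ := (D.mem _).1 (Tech.conj_mem_of_mem_normalizer uN D.s_mem) <;> rw [e] at fa ⊢
    · exact ev i fa
    · rw [mul_smul, hF a h.toYB.aF] at fa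
      exact (ev i fa).mul_left (Commute.refl s)
  have VT : ∀ g, (g = 1 ∨ g = t ∨ g = s ∨ g = t * s) → g ∈ T := by
    rintro g (e | e | e | e) <;> rw [e]
    exacts [one_mem _, D.zpowers_le tY, D.s_mem, mul_mem (D.zpowers_le tY) D.s_mem]
  have fin : ∀ g ∈ P, g * t = t * g → g * s * g⁻¹ = s → g ∈ T := fun g hg h1 h2 => by
    obtain ⟨k, hk⟩ := Tech.isPGroup_iff_mem.1 P.isPGroup' g hg
    exact VT g (h.yo1_two hF hk h1 (mul_inv_eq_iff_eq_mul.1 h2))
  rcases h.yo1_V (h.yo1_mem (od_conj_comm ut h.yo1_st) f) cs with e | e | e | e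
  · exact h.yo1_s1 (conj_eq_one_iff.1 e)
  · rw [← mul_inv_eq_iff_eq_mul.2 ut] at e
    exact h.yo1_s2 (mul_left_cancel (mul_right_cancel e))
  · exact uT (fin u uP ut e)
  · refine uT ((T.mul_mem_cancel_left IT).1 (fin (I * u) (mul_mem (hP IT) uP) ?_ ?_))
    · rw [mul_assoc, ut, ← mul_assoc, h.It, mul_assoc]
    · calc I * u * s * (I * u)⁻¹ = I * (u * s * u⁻¹) * I⁻¹ := by group
        _ = s := by rw [e, ← conj_mul, h.Is, mul_inv_eq_iff_eq_mul.2 h.It, ← mul_assoc, h.tt, one_mul]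

theorem yo1_x4 {v : G} (h1 : v * x * v⁻¹ = x⁻¹) (h2 : x ^ 2 * v = v * x ^ 2) : False := by
  have e : x ^ 4 = 1 := by
    have e1 : v * x ^ 2 * v⁻¹ = x⁻¹ ^ 2 := by rw [← conj_pow, h1]
    rw [← h2, mul_inv_cancel_right, inv_pow, eq_inv_iff_mul_eq_one, ← pow_add] at e1
    exact e1
  have := Nat.le_of_dvd (by norm_num) (h.dih.ord ▸ orderOf_dvd_of_pow_eq_one e)
  have := h.three
  omega

end YO

theorem YO.odd1 (h : YO a b t I s x μ β q) (hn : NoReg G Ω) (ho : Odd (Nat.card Ω))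
    (hF : ∀ c ∈ fixedBy Ω t, s • c = c) : False := by
  have := h.faith
  have B := h.toYB
  have hY := h.yo1_syl hF
  have t2 : orderOf t = 2 := orderOf_eq_prime (by rw [pow_two, h.tt]) h.t1
  obtain ⟨L, hL⟩ := GW.Cor.exists_socle (fun N => GW.ih_all GW.Cor.ft N) hY (oddCore_eq_bot h.two hn) fun hs => by
    have := eq_bot_of_solvable h.two hn (M := ⊤) inferInstance inferInstance
    exact h.t1 (mem_bot.1 (this ▸ mem_top t))
  have := hL.normal
  have inL : ∀ u : G, u * u = 1 → u ≠ 1 → u ∈ L := fun u u2 u1 => by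
    obtain ⟨S, n, r, j, -, D⟩ := hL.dih
    obtain ⟨g, e⟩ := isConj_iff.1 ((B.one (s := j) (congrArg Subtype.val D.ss) fun e =>
      D.notMem ((show j = 1 from Subtype.ext e) ▸ one_mem _)).symm.trans (B.one u2 u1))
    exact e ▸ hL.normal.conj_mem _ j.2 g
  rcases hL.known with ⟨-, ⟨e⟩⟩ | ⟨⟨F, _, _, f1, f2, ⟨e⟩⟩, -⟩
  · obtain ⟨v, v2, vt, vH, hv⟩ := (GW.KA.a7Facts_of_equiv e).four t t2
    have vv : v * v = 1 := by rw [← pow_two, ← v2, pow_orderOf_eq_one]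
    have v1 : v ≠ 1 := fun e => by simp [e] at v2
    have xH : x ^ 2 ∈ centralizer ({t} : Set G) := pow_mem h.dih.r_mem.2 2
    have xo : Odd (orderOf (x ^ 2)) := h.odd.of_dvd_nat (orderOf_dvd_of_pow_eq_one (by
      rw [← pow_mul, mul_comm, pow_mul, h.xt, pow_two, h.tt]))
    by_cases hm : ∀ c ∈ fixedBy Ω t, v • c = c
    · obtain ⟨j, e⟩ := h.yo1_refl (h.yo1_mem (commC vH) hm) vv v1 vt
      exact h.yo1_x4 (v := v) (by simpa [e] using h.dih.rpows_conj_rpow j 1) (commC (hv _ xH xo))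
    push Not at hm
    obtain ⟨c, hc, e⟩ := hm
    obtain ⟨g, hg, g1, g2⟩ := od_conj_sw B.tC B.aF B.bF h.hab vH hc e (by rw [← mul_smul, vv, one_smul])
    refine h.yo1_x4 (h.inv _ (conj_mul_self vv g) g1 g2 (od_conj_comm (commC hg) (commC vH))) ?_
    have k : Commute (g⁻¹ * x ^ 2 * g) v := commC (hv _ (mul_mem (mul_mem (inv_mem hg) xH) hg) (by
      have := (MulAut.conj g⁻¹).orderOf_eq (x ^ 2)
      rwa [← this, MulAut.conj_apply, inv_inv] at xo))
    simpa [mul_assoc] using (k.conj g).eq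
  obtain ⟨α, β', hf⟩ := GW.l2Facts hY L hL.cent f1 f2 e
  obtain ⟨y, w, hT⟩ := hf.tor_in t (inL t h.tt h.t1) t2
  have D := hT.dih
  obtain ⟨k, e | e⟩ := (D.mem s).1 ⟨inL s h.dih.ss h.yo1_s1, h.dih.s_mem.2⟩
  · exact h.yo1_s2 (D.eq_of_sq (e ▸ zpow_mem (mem_zpowers y) k) (hT.t_mem (inL t h.tt h.t1)) h.dih.ss h.tt h.yo1_s1 h.t1)
  have y2 : y ^ (2 : ℤ) ∈ stabilizer G a := by
    have e1 : y ^ (2 : ℤ) = y * s * y⁻¹ * s := by
      have := D.rpow_conj_rpows 1 k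
      rw [zpow_one] at this
      rw [e, this, D.rpows_mul_rpows]
      congr 1
      ring
    rw [mem_stabilizer_iff, e1, mul_smul, hF a B.aF, yo1_conj (commC D.r_mem.2) hF a B.aF]
  have k1 : ∀ i : ℤ, y ^ i • a = a ∨ y ^ i • a = y • a := fun i => by
    rcases Int.even_or_odd' i with ⟨m, e | e⟩ <;> rw [e]
    · exact Or.inl (by rw [zpow_mul]; exact zpow_mem y2 m)
    · exact Or.inr (by rw [add_comm, zpow_one_add, mul_smul, zpow_mul, show _ • a = a from zpow_mem y2 m])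
  have k2 : fixedBy Ω t ⊆ {a, y • a} := fun c hc => by
    by_cases ca : c = a
    · exact Or.inl ca
    obtain ⟨g, g0, g1, g2⟩ := B.toC B.aF hc (Ne.symm ca)
    have e1 : (g * I * g⁻¹) • a = c := by
      rw [mul_smul, mul_smul, inv_smul_eq_iff.2 g1.symm, h.Ia, g2]
    obtain ⟨i, e2 | e2⟩ := (D.mem (g * I * g⁻¹)).1
      ⟨hL.normal.conj_mem _ (inL I h.II B.I1) g, memC (od_conj_comm g0 h.It)⟩ <;> rw [← e1, e2]
    · exact k1 i
    · have e3 : y ^ i * w = y ^ (i - k) * s := by rw [e, ← mul_assoc, ← zpow_add, sub_add_cancel]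
      rw [e3, mul_smul, hF a B.aF]
      exact k1 _
  have k3 := (Set.ncard_le_ncard k2).trans (Set.ncard_insert_le _ _)
  rw [Set.ncard_singleton] at k3
  have k4 := B.parity
  have k5 := B.two_le
  rw [Nat.odd_iff] at ho
  omega

end CfsgLib.TPS
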