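import Cfsg.Agent.Lib.TPS.YDefs

/-! S3400, package YO2: type Y, `L₂(q)` with `q` odd, odd degree, `Fix t ≠ Fix S`.  See `plans/TPSY.md`. -/

set_option autoImplicit false
set_option linter.unusedSectionVars false

namespace CfsgLib.TPS

open Subgroup MulAction CfsgLib.Perm CfsgLib.Kim CfsgLib.DihSyl

variable {G : Type*} [Group G] [Finite G] {Ω : Type*} [Finite Ω] [MulAction G Ω]
  {a b : Ω} {t I s x : G} {μ β q : ℕ}

namespace YO

variable (h : YO a b t I s x μ β q)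
include h

theorem o2_t : x ^ (μ : ℤ) = t := by rw [zpow_natCast, h.xt]

theorem o2_Ix : I * x * I⁻¹ = x⁻¹ := h.inv I h.II h.Ia h.Ib h.It

/-- the elements `x ^ j w`, `w` inverting `x`, are conjugate to `w` or `t w` -/
theorem o2_R {w : G} (hw : w * x * w⁻¹ = x⁻¹) (j : ℤ) :
    ∃ k : ℤ, x ^ k * (x ^ j * w) * (x ^ k)⁻¹ = w ∨ x ^ k * (x ^ j * w) * (x ^ k)⁻¹ = t * w := by
  have e : ∀ k : ℤ, x ^ k * (x ^ j * w) * (x ^ k)⁻¹ = x ^ (j + 2 * k) * w := fun k => by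
    calc _ = x ^ k * x ^ j * (w * x ^ (-k) * w⁻¹) * w := by group
      _ = _ := by rw [Invol.conj_zpow_of_inverts hw]; group
  obtain ⟨m, hm⟩ := h.odd
  rcases Int.even_or_odd' j with ⟨i, e1 | e1⟩
  · exact ⟨-i, Or.inl (by rw [e, show j + 2 * -i = 0 by omega, zpow_zero, one_mul])⟩
  · exact ⟨m - i, Or.inr (by rw [e, show j + 2 * (m - i) = μ by omega, h.o2_t])⟩

theorem o2_sq {j : ℤ} (e : x ^ j * x ^ j = 1) : x ^ j = 1 ∨ x ^ j = t :=
  or_iff_not_imp_left.2 fun e1 => h.dih.eq_of_sq ⟨j, rfl⟩ ⟨μ, h.o2_t⟩ e h.tt e1 h.t1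

theorem o2_yy : I * s * (I * s) = t := by
  have := h.Is
  rw [h.Iinv] at this
  rw [← mul_assoc, this, mul_assoc, h.dih.ss, mul_one]

theorem o2_yx (j : ℤ) : I * s * x ^ j = x ^ j * (I * s) := by
  rw [mul_assoc, h.dih.s_mul, ← mul_assoc, ← mul_inv_eq_iff_eq_mul.1 (Invol.conj_zpow_of_inverts h.o2_Ix (-j)) |>.symm,
    neg_neg, mul_assoc]

theorem o2_sw {u : G} (hu : u * t = t * u) (ha : u • a = b) (hb : u • b = a) :
    ∃ j : ℤ, (u = I * s * x ^ j ∧ u * u = t * (x ^ j * x ^ j)) ∨ (u = x ^ j * I ∧ u * u = 1) := by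
  obtain ⟨j, e⟩ := (h.dih.mem (s⁻¹ * (I * u))).1 (mul_mem (inv_mem h.dih.s_mem)
    ⟨h.sw_mem ha hb, mul_mem h.IC (memC hu)⟩)
  have e1 : u = I * s * (s⁻¹ * (I * u)) := by rw [mul_assoc, mul_inv_cancel_left, ← mul_assoc, h.II, one_mul]
  refine ⟨j, e.imp (fun e => ?_) fun e => ?_⟩
  · rw [e] at e1
    refine ⟨e1, ?_⟩
    rw [e1, mul_assoc (I * s), ← mul_assoc (x ^ j), ← h.o2_yx, ← h.o2_yy]
    simp only [mul_assoc]
  · rw [e, ← mul_assoc, h.o2_yx, mul_assoc, mul_assoc, h.dih.ss, mul_one] at e1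
    refine ⟨e1, ?_⟩
    calc u * u = x ^ j * (I * x ^ j * I⁻¹) := by rw [e1, h.Iinv]; simp only [mul_assoc]
      _ = 1 := by rw [Invol.conj_zpow_of_inverts h.o2_Ix]; group

theorem o2_key {u : G} (e1 : u * u = 1) (e2 : u * t = t * u) (e3 : ∃ c ∈ fixedBy Ω t, u • c ≠ c) :
    (fixedBy Ω u ∩ fixedBy Ω t).ncard = (fixedBy Ω I ∩ fixedBy Ω t).ncard := by
  obtain ⟨c, hc, e3⟩ := e3
  obtain ⟨g, hg, e4, e5⟩ := od_conj_sw h.tC h.aF h.bF h.hab (memC e2) hc e3 (by rw [← mul_smul, e1, one_smul])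
  rw [← od_ncard_conj h.tC hg]
  obtain ⟨j, ⟨-, e7⟩ | ⟨e7, -⟩⟩ := h.o2_sw (od_conj_comm (commC hg) e2) e4 e5
  · rw [conj_mul_self e1 g, ← h.o2_t, ← zpow_add, ← zpow_add, eq_comm, h.dih.eq_one_iff] at e7
    obtain ⟨m, hm⟩ := h.odd
    have := (show (2 : ℤ) ∣ ((2 * μ : ℕ) : ℤ) from ⟨μ, by push_cast; ring⟩).trans e7
    omega
  · obtain ⟨k, e | e⟩ := h.o2_R h.o2_Ix j <;> rw [e7, ← od_ncard_conj h.tC (h.dih.rpow_mem k).2, e]
    congr 1; ext z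
    refine and_congr_left fun hz => ?_
    rw [mem_fixedBy, ← h.It, mul_smul, hz, mem_fixedBy]

theorem o2_refl {g u : G} (hg : g * t = t * g) (hu : u * t = t * u) (u2 : u * u = 1) (u1 : u ≠ 1) (ut : u ≠ t)
    (ha : u • g • a = g • a) (hb : u • g • b = g • b) : ∃ j : ℤ, g⁻¹ * u * g = x ^ j * s := by
  obtain ⟨j, e | e⟩ := (h.dih.mem (g⁻¹ * u * g)).1 ⟨⟨by
      show _ • a = a
      rw [mul_smul, mul_smul, ha, inv_smul_smul], by
      show _ • b = b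
      rw [mul_smul, mul_smul, hb, inv_smul_smul]⟩, commC (mul_mem (mul_mem (inv_mem (memC hg)) (memC hu)) (memC hg)) |> memC⟩
  · have e1 : u = g * x ^ j * g⁻¹ := by rw [← e]; group
    rcases h.o2_sq (j := j) (by simpa [← e] using conj_mul_self u2 g⁻¹) with e2 | e2 <;> rw [e2] at e1
    · exact absurd (by simpa using e1) u1
    · exact absurd (by rw [e1, hg, mul_inv_cancel_right]) ut
  · exact ⟨j, e⟩

end YO

theorem YO.odd2 (h : YO a b t I s x μ β q) (ho : Odd (Nat.card Ω))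
    (hF : ∃ c ∈ fixedBy Ω t, s • c ≠ c) : False := by
  have yy := h.o2_yy
  have hs := h.dih.s_mem
  have hvy : s * (I * s) * s⁻¹ = (I * s)⁻¹ := by
    rw [mul_inv_rev, h.Iinv, mul_assoc, mul_inv_cancel_right, h.dih.s_inv]
  have hO : Odd (fixedBy Ω t).ncard := by
    have := h.parity
    rw [Nat.odd_iff] at ho ⊢
    omega
  have yy' : (I * s)⁻¹ * (I * s)⁻¹ = t := by rw [← mul_inv_rev, yy, inv_eq_of_mul_eq_one_right h.tt]
  have hDC : ∀ u : G, u * u = t → u * t = t * u := fun u hu => by rw [← hu, mul_assoc]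
  have hD2 : ∀ u : G, u * u = t → ∀ z ∈ fixedBy Ω t, u • u • z = z := fun u hu z hz => by
    rw [← mul_smul, hu]; exact hz
  have hD1 : ∀ u : G, u * u = t → (fixedBy Ω u ∩ fixedBy Ω t).ncard = 1 := fun u hu => by
    obtain ⟨z, hz, hsz⟩ := exists_fix_of_odd (h.tC.inv u (memC (hDC u hu))) (hD2 u hu) hO
    rw [Set.ncard_eq_one]
    refine ⟨z, Set.eq_singleton_iff_unique_mem.2 ⟨⟨hsz, hz⟩, fun w hw => ?_⟩⟩
    by_contra e
    exact h.t1 (hu.symm.trans (h.sq_of_fix (by rw [hu, h.tt]) e hw.1 hsz))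
  obtain ⟨c, hc⟩ := Set.ncard_eq_one.1 (hD1 _ yy)
  have hc' : c ∈ fixedBy Ω (I * s) ∩ fixedBy Ω t := hc ▸ rfl
  have e1 := h.tC.cnt_f1_of_one (D := {u | u * u = t}) (fun g hg u hu => by
    calc g * u * g⁻¹ * (g * u * g⁻¹) = g * (u * u) * g⁻¹ := by group
      _ = t := by rw [hu, commC hg, mul_inv_cancel_right]) (fun u hu => memC (hDC u hu)) hD2 hD1
    h.aF h.bF h.hab hc'.2
  have e2 : sw {u | u * u = t} a b ⊆ {I * s, (I * s)⁻¹} := fun u hu => by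
    have e3 : u * u = t := hu.1
    obtain ⟨j, ⟨e4, e5⟩ | ⟨-, e5⟩⟩ := h.o2_sw (hDC u e3) hu.2.1 hu.2.2
    · rcases h.o2_sq (j := j) (by simpa [e3] using e5) with e | e <;> rw [e] at e4
      · exact Or.inl (e4.trans (mul_one _))
      · exact Or.inr (e4.trans (eq_inv_of_mul_eq_one_right (by rw [← mul_assoc, yy, h.tt])))
    · exact absurd (e3.symm.trans e5) h.t1
  have hne' : I * s ≠ (I * s)⁻¹ := fun e => h.t1 (by rw [← yy]; exact mul_eq_one_iff_eq_inv.2 e)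
  have hyc : (I * s)⁻¹ • c = c := inv_smul_eq_iff.2 hc'.1.symm
  have e3 : {I * s, (I * s)⁻¹} = f1 {u | u * u = t} c := by
    refine Set.eq_of_subset_of_ncard_le ?_ (e1.le.trans (Set.ncard_le_ncard e2))
    rintro _ (rfl | rfl)
    exacts [⟨yy, hc'.1⟩, ⟨yy', hyc⟩]
  have hvc : s • c = c := by
    refine show s • c ∈ ({c} : Set Ω) from hc ▸ ⟨?_, h.tC.inv s hs.2 c hc'.2⟩
    have : (I * s)⁻¹ • s • c = s • c := by rw [← hvy, conj_smul, hc'.1]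
    exact (inv_smul_eq_iff.1 this).symm
  have hIj := h.o2_key h.dih.ss (commC hs.2) hF
  have h3 : 1 < (fixedBy Ω s ∩ fixedBy Ω t).ncard :=
    (Set.one_lt_ncard (Set.toFinite _)).2 ⟨a, ⟨hs.1.1, h.aF⟩, b, ⟨hs.1.2, h.bF⟩, h.hab⟩
  have hca : c ≠ a := fun e => h.hab (by
    have : (I * s) • c = c := hc'.1
    rw [e, mul_smul, show s • a = a from hs.1.1, h.Ia] at this
    exact this.symm)
  let Y : Subgroup G := centralizer {t} ⊓ stabilizer G c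
  refine od_dih_contra (Y := Y) (τ := ⟨t, memC rfl, hc'.2⟩) (y := ⟨I * s, memC (hDC _ yy), hc'.1⟩)
    (v := ⟨s, hs.2, hvc⟩) (fun g => Subtype.ext (commC g.2.1))
    (fun e => h.t1 (congrArg Subtype.val e)) (Subtype.ext h.tt) (Subtype.ext yy)
    (Subtype.ext h.dih.ss) (Subtype.ext hvy) (fun u hu => ?_) (fun u s2 s1 sτ => ?_)
  · have : (u : G) ∈ ({I * s, (I * s)⁻¹} : Set G) := e3 ▸ ⟨congrArg Subtype.val hu, u.2.2⟩
    exact this.imp Subtype.ext Subtype.ext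
  · obtain ⟨u, hu, huc⟩ := u
    have s2' : u * u = 1 := congrArg Subtype.val s2
    have : 1 < (fixedBy Ω u ∩ fixedBy Ω t).ncard := by
      by_cases e : ∃ z ∈ fixedBy Ω t, u • z ≠ z
      · rwa [h.o2_key s2' (commC hu) e, ← hIj]
      · push Not at e
        exact h3.trans_le (Set.ncard_le_ncard fun z hz => ⟨e z hz.2, hz.2⟩)
    obtain ⟨d, hd, hdc⟩ := Set.exists_ne_of_one_lt_ncard this c
    obtain ⟨g, g1, g2, g3⟩ := h.toC hc'.2 h.aF hca
    obtain ⟨k, k1, k2, k3⟩ := h.toC hc'.2 hd.2 hdc.symm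
    obtain ⟨j, ej⟩ := h.o2_refl g1 (commC hs.2) h.dih.ss (fun e => h.dih.notMem (e ▸ one_mem _))
      (fun e => h.dih.notMem ⟨μ, h.o2_t.trans e.symm⟩) (by rw [g2, hvc]) (by rw [g3]; exact hs.1.1)
    obtain ⟨i, ei⟩ := h.o2_refl k1 (commC hu) s2' (fun e => s1 (Subtype.ext e)) (fun e => sτ (Subtype.ext e))
      (by rw [k2]; exact huc) (by rw [k3]; exact hd.1)
    obtain ⟨l, el⟩ := h.o2_R (w := x ^ j * s) (by simpa using h.dih.rpows_conj_rpow j 1) (i - j)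
    rw [show x ^ (i - j) * (x ^ j * s) = x ^ i * s by group, ← ei, ← ej] at el
    refine ⟨⟨g * x ^ l * k⁻¹, Subgroup.mul_mem _ (Subgroup.mul_mem _ (memC g1) (h.dih.rpow_mem l).2) (Subgroup.inv_mem _ (memC k1)), ?_⟩,
      el.imp (fun e => Subtype.ext ?_) fun e => Subtype.ext ?_⟩
    · show _ • c = c
      rw [mul_smul, mul_smul, inv_smul_eq_iff.2 k2.symm, show x ^ l • a = a from (h.dih.rpow_mem l).1.1, g2]
    · calc g * x ^ l * k⁻¹ * u * (g * x ^ l * k⁻¹)⁻¹ = g * (x ^ l * (k⁻¹ * u * k) * (x ^ l)⁻¹) * g⁻¹ := by group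
        _ = s := by rw [e]; group
    · calc g * x ^ l * k⁻¹ * u * (g * x ^ l * k⁻¹)⁻¹ = g * (x ^ l * (k⁻¹ * u * k) * (x ^ l)⁻¹) * g⁻¹ := by group
        _ = g * t * g⁻¹ * s := by rw [e]; group
        _ = t * s := by rw [g1, mul_inv_cancel_right]

end CfsgLib.TPS
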