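import Cfsg.Agent.Lib.TPS.YDefs

/-! S3400, package YOE: type Y, `L₂(q)` with `q` odd, even degree.  See `plans/TPSY.md`. -/

set_option autoImplicit false
set_option linter.unusedSectionVars false

namespace CfsgLib.TPS

open Subgroup MulAction CfsgLib.Perm CfsgLib.Kim CfsgLib.DihSyl

variable {G : Type*} [Group G] [Finite G] {Ω : Type*} [Finite Ω] [MulAction G Ω]
  {a b : Ω} {t I s x : G} {μ β q : ℕ}

private theorem yoe_tx (h : YO a b t I s x μ β q) : t ∈ zpowers x := h.xt ▸ pow_mem (mem_zpowers x) μ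

private theorem yoe_st (h : YO a b t I s x μ β q) : s ≠ t := fun e => h.dih.notMem (e ▸ yoe_tx h)

private theorem yoe_s1 (h : YO a b t I s x μ β q) : s ≠ 1 := fun e => h.dih.notMem (e ▸ one_mem _)

private theorem yoe_refl (h : YO a b t I s x μ β q) {u : G} (hu : u ∈ stab2 G a b ⊓ centralizer ({t} : Set G))
    (h2 : u * u = 1) (h1 : u ≠ 1) (ht : u ≠ t) : ∃ j : ℤ, u = x ^ j * s := by
  obtain ⟨j, e | e⟩ := (h.dih.mem u).1 hu
  · exact absurd (h.dih.eq_of_sq ⟨j, e.symm⟩ (yoe_tx h) h2 h.tt h1 h.t1) ht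
  · exact ⟨j, e⟩

private theorem yoe_R (h : YO a b t I s x μ β q) {u : G} (hu : u ∈ stab2 G a b ⊓ centralizer ({t} : Set G))
    (h2 : u * u = 1) (h1 : u ≠ 1) (ht : u ≠ t) :
    ∃ c ∈ stab2 G a b ⊓ centralizer ({t} : Set G), c * s * c⁻¹ = u ∨ c * s * c⁻¹ = t * u := by
  obtain ⟨j, rfl⟩ := yoe_refl h hu h2 h1 ht
  have k : ∀ i : ℤ, x ^ i * s * (x ^ i)⁻¹ = x ^ (2 * i) * s := fun i => by simpa using h.dih.rpow_conj_rpows i 0
  obtain ⟨m, hm⟩ := h.odd
  rcases Int.even_or_odd' j with ⟨i, rfl | rfl⟩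
  · exact ⟨_, h.dih.rpow_mem i, Or.inl (k i)⟩
  · refine ⟨_, h.dih.rpow_mem (i + m + 1), Or.inr ?_⟩
    rw [k, ← h.xt, ← mul_assoc, ← zpow_natCast, ← zpow_add, hm]
    congr 2
    push_cast; ring

private theorem yoe_conj (h : YO a b t I s x μ β q) {u g : G} (hg : g * t = t * g) (h2 : u * u = 1) (h1 : u ≠ 1)
    (ht : u ≠ t) (ut : u * t = t * u) (ua : u • g • a = g • a) (ub : u • g • b = g • b) :
    ∃ c ∈ stab2 G a b ⊓ centralizer ({t} : Set G), g * c * s * (g * c)⁻¹ = u ∨ g * c * s * (g * c)⁻¹ = t * u := by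
  obtain ⟨c, hc, e⟩ := yoe_R h (u := g⁻¹ * u * g) ⟨⟨show _ • a = a by rw [mul_smul, mul_smul, ua, inv_smul_smul],
      show _ • b = b by rw [mul_smul, mul_smul, ub, inv_smul_smul]⟩,
      memC (by simpa using od_conj_comm (commC (inv_mem (memC hg))) ut)⟩ (by simpa using conj_mul_self h2 g⁻¹)
    (fun e => h1 (by simpa [mul_assoc] using congrArg (fun x => g * x * g⁻¹) e))
    fun e => ht (by simpa [mul_assoc, ← mul_assoc g t, hg] using congrArg (fun x => g * x * g⁻¹) e)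
  refine ⟨c, hc, e.imp (fun e => ?_) fun e => ?_⟩
  · rw [show g * c * s * (g * c)⁻¹ = g * (c * s * c⁻¹) * g⁻¹ by group, e]; group
  · rw [show g * c * s * (g * c)⁻¹ = g * (c * s * c⁻¹) * g⁻¹ by group, e, ← mul_assoc, hg]; group

private theorem yoe_tN (h : YO a b t I s x μ β q) : TT (NV t s h.tt) (fixedBy Ω t ∩ fixedBy Ω s) := by
  have toN : ∀ {c d : Ω}, c ∈ fixedBy Ω t ∩ fixedBy Ω s → d ∈ fixedBy Ω t ∩ fixedBy Ω s → c ≠ d →
      ∃ g ∈ NV t s h.tt, g • a = c ∧ g • b = d := fun hc hd hcd => by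
    obtain ⟨g, h1, rfl, rfl⟩ := h.toC hc.1 hd.1 hcd
    obtain ⟨e, he, k⟩ := yoe_conj h h1 h.dih.ss (yoe_s1 h) (yoe_st h) (commC h.dih.s_mem.2) hc.2 hd.2
    exact ⟨g * e, ⟨commC (mul_mem (memC h1) he.2), k⟩, by rw [mul_smul, he.1.1], by rw [mul_smul, he.1.2]⟩
  refine ⟨fun g hg x hx => ⟨smul_fix_of_comm hg.1 hx.1, ?_⟩, fun ha hb hc hd hab hcd => ?_⟩
  · have h1 : (g⁻¹ * s * g⁻¹⁻¹) • x = x := by
      rcases (inv_mem hg).2 with e | e <;> rw [e]
      exacts [hx.2, by rw [mul_smul, hx.2, hx.1]]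
    rw [inv_inv, mul_smul, mul_smul, inv_smul_eq_iff] at h1
    exact h1
  obtain ⟨g, h1, h2, h3⟩ := toN ha hb hab
  obtain ⟨g', h4, h5, h6⟩ := toN hc hd hcd
  exact ⟨g' * g⁻¹, mul_mem h4 (inv_mem h1), by rw [mul_smul, ← h2, inv_smul_smul, h5],
    by rw [mul_smul, ← h3, inv_smul_smul, h6]⟩

private theorem yoe_two (h : YO a b t I s x μ β q) (hi : Even (fixedBy Ω t).ncard) :
    (fixedBy Ω s ∩ fixedBy Ω t).ncard = 2 := by
  have T := yoe_tN h
  have sC := h.dih.s_mem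
  have ha : a ∈ fixedBy Ω t ∩ fixedBy Ω s := ⟨h.aF, sC.1.1⟩
  have hb : b ∈ fixedBy Ω t ∩ fixedBy Ω s := ⟨h.bF, sC.1.2⟩
  have par := ncard_mod_two (h.tC.inv s sC.2) fun x _ => by rw [← mul_smul, h.dih.ss, one_smul]
  rw [Set.inter_comm] at par ⊢
  have ne : t * s ≠ s := fun e => h.t1 (by simpa using e)
  have k0 : NV t s h.tt ⊓ stab2 G a b ≤ centralizer ({s} : Set G) := fun g hg => by
    refine memC (mul_inv_eq_iff_eq_mul.1 (hg.1.2.resolve_right fun e => ?_))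
    obtain ⟨j, k⟩ := h.dih.conj_rpows (g := g) ⟨hg.2, memC hg.1.1⟩ 0
    rw [zpow_zero, one_mul, e, ← h.xt, mul_left_inj, ← zpow_natCast, h.dih.eq_iff] at k
    obtain ⟨m, hm⟩ := h.odd
    obtain ⟨l, hl⟩ := k
    have : (μ : ℤ) = 2 * (j + μ * l) := by push_cast at hl; linear_combination hl
    omega
  have k1 : NV t s h.tt ⊓ stabilizer G a ≤ centralizer ({s} : Set G) := fun g hg => by
    by_contra n
    have e := hg.1.2.resolve_left fun e => n (memC (mul_inv_eq_iff_eq_mul.1 e))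
    have i2 : (centralizer ({s} : Set G)).relIndex (NV t s h.tt ⊓ stabilizer G a) = 2 :=
      relIndex_eq_two_iff.2 ⟨g, hg, fun y hy => by
        have e1 : y * g * s * (y * g)⁻¹ = t * (y * s * y⁻¹) := by
          rw [show y * g * s * (y * g)⁻¹ = y * (g * s * g⁻¹) * y⁻¹ by group, e, ← mul_assoc, hy.1.1]; group
        simp only [mem_centralizer_singleton_iff, ← mul_inv_eq_iff_eq_mul (b := y), ← mul_inv_eq_iff_eq_mul (b := y * g), e1]
        rcases hy.1.2 with e2 | e2 <;> rw [e2]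
        · exact Or.inr ⟨rfl, ne⟩
        · exact Or.inl ⟨by rw [← mul_assoc, h.tt, one_mul], ne⟩⟩
    have d := relIndex_dvd_of_le_left (NV t s h.tt ⊓ stabilizer G a) k0
    have c1 := T.card_stab ha hb h.hab
    have c2 := Tech.card_mul_relIndex' (inf_le_inf_left (NV t s h.tt) (inf_le_left : stab2 G a b ≤ stabilizer G a))
    rw [← c2, Nat.cast_mul, mul_comm] at c1
    have c3 := mul_right_cancel₀ (by exact_mod_cast Nat.card_pos.ne') c1
    rw [i2] at d
    obtain ⟨m, hm⟩ := hi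
    change 2 ∣ (NV t s h.tt ⊓ (stabilizer G a ⊓ stabilizer G b)).relIndex (NV t s h.tt ⊓ stabilizer G a) at d
    omega
  by_contra n
  obtain ⟨c, hc, hn⟩ : ∃ c ∈ fixedBy Ω t ∩ fixedBy Ω s, c ∉ ({a, b} : Set Ω) := Set.not_subset.1 fun e =>
    n (by rw [e.antisymm (Set.pair_subset ha hb), Set.ncard_pair h.hab])
  simp only [Set.mem_insert_iff, Set.mem_singleton_iff, not_or] at hn
  obtain ⟨k, hk, kc, ka⟩ := T.two hc ha hc hb hn.1 hn.2
  obtain ⟨m, hm, rfl⟩ := T.one ha hc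
  obtain ⟨g, hg, ga, gb⟩ := T.two ha hb hb ha h.hab h.hab.symm
  have e1 := commC (k1 (mem_inf.2 ⟨mul_mem (mul_mem (inv_mem hm) hk) hm,
    show (m⁻¹ * k * m) • a = a by rw [mul_smul, mul_smul, kc, inv_smul_smul]⟩))
  have e2 : k * (m * s * m⁻¹) = m * s * m⁻¹ * k := by
    calc _ = m * (m⁻¹ * k * m * s) * m⁻¹ := by group
      _ = _ := by rw [e1]; group
  have e3 : k * s = s * k := by
    rcases hm.2 with e | e <;> rw [e] at e2
    · exact e2
    · exact mul_left_cancel (a := t) (by rw [← mul_assoc, ← hk.1, mul_assoc, e2, mul_assoc])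
  have e4 := k1 (mem_inf.2 ⟨mul_mem (inv_mem hk) hg, show (k⁻¹ * g) • a = a by rw [mul_smul, ga, ← ka, inv_smul_smul]⟩)
  exact h.noX g ga gb hg.1 (commC ((mul_mem_cancel_left (inv_mem (memC e3))).1 e4))

theorem YO.even (h : YO a b t I s x μ β q) (he : Even (Nat.card Ω)) : False := by
  have hi : Even (fixedBy Ω t).ncard := by
    have := h.parity
    rw [Nat.even_iff] at he ⊢; omega
  have T := h.tC
  let E : Set G := {u | u * u = 1 ∧ u ≠ 1 ∧ u ≠ t ∧ u * t = t * u ∧ ∃ p ∈ fixedBy Ω t, u • p = p}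
  have hE : ∀ g ∈ centralizer ({t} : Set G), ∀ u ∈ E, g * u * g⁻¹ ∈ E := by
    rintro g hg u ⟨u2, u1, ut, uc, p, hp, up⟩
    refine ⟨conj_mul_self u2 g, by simpa using u1, fun e => ut ?_, od_conj_comm (commC hg) uc, g • p, T.inv g hg p hp,
      (conj_smul_iff g u p p).2 up⟩
    exact mul_left_cancel ((mul_inv_eq_iff_eq_mul.1 e).trans (commC hg).symm)
  have E2 : ∀ u ∈ E, ∀ y ∈ fixedBy Ω t, u • u • y = y := fun u hu y _ => by rw [← mul_smul, hu.1, one_smul]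
  have hf : ∀ u ∈ E, (fixedBy Ω u ∩ fixedBy Ω t).ncard = 2 := fun u hu => by
    obtain ⟨p, hp, up⟩ := hu.2.2.2.2
    obtain ⟨p', hp', ne, up'⟩ := exists_fix_ne_of_even (T.inv u (memC hu.2.2.2.1)) (E2 u hu) hi hp up
    obtain ⟨g, hg, rfl, rfl⟩ := h.toC hp hp' ne.symm
    obtain ⟨c, hc, e⟩ := yoe_conj h hg hu.1 hu.2.1 hu.2.2.1 hu.2.2.2.1 up up'
    rw [← yoe_two h hi, ← od_ncard_conj T (mul_mem (memC hg) hc.2) s]
    rcases e with e | e <;> rw [e]
    refine congrArg _ (Set.ext fun y => and_congr_left fun hy => ?_)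
    rw [mem_fixedBy, mem_fixedBy, ← hu.2.2.2.1, mul_smul, hy]
  have c1 := T.cnt_two hE hf h.aF h.bF h.hab
  have c2 := T.cnt_sw hE (fun u hu => memC hu.2.2.2.1) E2 hf h.aF h.bF h.hab
  have sK := h.dih.s_mem
  have c3 : (f2 E a b).ncard = 2 * μ := by
    rw [← h.dih.ord, ← Nat.card_zpowers, ← ncard_coe, ← Set.ncard_image_of_injective (zpowers x : Set G) (mul_left_injective s)]
    refine congrArg _ (Set.ext fun u => ⟨fun hu => ?_, ?_⟩)
    · obtain ⟨j, e⟩ := yoe_refl h ⟨hu.2, memC hu.1.2.2.2.1⟩ hu.1.1 hu.1.2.1 hu.1.2.2.1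
      exact ⟨_, ⟨j, rfl⟩, e.symm⟩
    · rintro ⟨_, ⟨j, rfl⟩, rfl⟩
      have m := h.dih.rpows_mem j
      exact ⟨⟨h.dih.rpows_sq j, h.dih.rpows_ne_one j, fun e => h.dih.rpows_notMem j ((show x ^ j * s = t from e) ▸ yoe_tx h),
        commC m.2, a, h.aF, m.1.1⟩, m.1⟩
  have c4 : 2 * (sw E a b).ncard ≤ 4 * μ := by
    have e := T.ncard_sw h.aF h.bF h.hab
    rw [inf_comm, h.dih.card] at e
    have d : Disjoint (sw E a b) ((· * s) '' sw E a b) := Set.disjoint_left.2 (by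
      rintro _ h1 ⟨u, hu, rfl⟩
      refine h.noX u hu.2.1 hu.2.2 hu.1.2.2.2.1 ?_
      rw [eq_inv_of_mul_eq_one_left (show u * s * (u * s) = 1 from h1.1.1), mul_inv_rev, inv_eq_of_mul_eq_one_right hu.1.1, h.dih.s_inv])
    have l := Set.ncard_le_ncard (s := sw E a b ∪ (· * s) '' sw E a b) (t := sw (centralizer ({t} : Set G) : Set G) a b)
      (Set.union_subset (fun u hu => ⟨memC hu.1.2.2.2.1, hu.2⟩) (by
        rintro _ ⟨u, hu, rfl⟩
        exact ⟨mul_mem (memC hu.1.2.2.2.1) sK.2, by rw [mul_smul, sK.1.1, hu.2.1], by rw [mul_smul, sK.1.2, hu.2.2]⟩))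
    rw [Set.ncard_union_eq d, Set.ncard_image_of_injective _ (mul_left_injective s)] at l
    omega
  have k2 := h.f2_card
  have kd := h.sw_card
  have kc := h.cnt.1
  have i2 := h.two_le
  have lt := h.lt_card
  have h3 := h.three
  have hle := h.le
  have q0 : q ≠ 0 := fun e => by
    have := h.cardK
    rw [e, zero_mul, mul_zero] at this
    exact Nat.card_pos.ne' this
  rw [h.dih.card, h.cardK] at k2
  rw [h.cardI, h.cardK] at kd
  rw [Nat.eq_of_mul_eq_mul_right (m := 4 * μ) (k := q * β) (by omega) (n := (f2 (cl t) a b).ncard) (by linarith),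
    Nat.eq_of_mul_eq_mul_right (m := 2 * β) (k := 2 * μ * q) (by omega) (n := (sw (cl t) a b).ncard) (by linarith)] at kc
  rw [c3] at c1
  generalize (fixedBy Ω t).ncard = i at *
  have c5 : (μ : ℤ) * (i - 2) = (sw E a b).ncard :=
    mul_left_cancel₀ (show (2 : ℤ) * (i * (i - 1)) ≠ 0 from mul_ne_zero two_ne_zero (mul_ne_zero (by omega) (by omega)))
      (by push_cast at c1 c2; linear_combination 2 * c2 - (i - 2) * c1)
  have i4 : i ≤ 4 := by
    by_contra n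
    have : (μ : ℤ) * 3 ≤ μ * (i - 2) := mul_le_mul_of_nonneg_left (by omega) (by omega)
    omega
  have d : (β : ℤ) ∣ (2 * μ : ℕ) * (i * (i - 1)) := ⟨Nat.card Ω - i, mul_left_cancel₀ (show (q : ℤ) ≠ 0 by omega) (by
    push_cast at kc ⊢; linear_combination -kc)⟩
  have d' := (Nat.isCoprime_iff_coprime.2 h.cop.symm).dvd_of_dvd_mul_left d
  have o : Odd β := Nat.coprime_two_left.1 h.cop.coprime_mul_right
  obtain ⟨m, hm⟩ := hi
  obtain ⟨l, rfl⟩ := o
  have d12 : 2 * l + 1 ∣ 12 := by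
    obtain rfl | rfl : i = 2 ∨ i = 4 := by omega
    · exact Int.natCast_dvd_natCast.1 (d'.trans (by norm_num))
    · exact Int.natCast_dvd_natCast.1 (d'.trans (by norm_num))
  have := Nat.le_of_dvd (by norm_num) d12
  have : l ≤ 5 := by omega
  interval_cases l <;> omega

end CfsgLib.TPS
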