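import Cfsg.Agent.Lib.TPS.Y0
import Cfsg.Agent.Lib.TPS.YO0
import Cfsg.Agent.Lib.TPS.YOE
import Cfsg.Agent.Lib.TPS.YO1
import Cfsg.Agent.Lib.TPS.YO2
import Cfsg.Agent.Lib.TPS.YE1
import Cfsg.Agent.Lib.TPS.YE2
import Cfsg.Agent.Lib.TPS.Soc

/-! S3400: type Y does not occur. -/

set_option autoImplicit false
set_option linter.unusedSectionVars false

namespace CfsgLib.TPS

open Subgroup MulAction CfsgLib.Perm CfsgLib.Kim CfsgLib.DihSyl

variable {G : Type*} [Group G] [Finite G] {Ω : Type*} [Finite Ω] [MulAction G Ω] [FaithfulSMul G Ω]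
  {a b : Ω} {S : Subgroup G}

theorem Cx.typeY (h : Cx a b S) (hx : ¬ TX a b S) : False := by
  obtain ⟨t, I, hC⟩ := exists_YC h.h2 h.ne h.sab hx
  have h8 : Nat.card S ≠ 8 := fun e => by
    have := hC.half
    rw [e] at this
    generalize Nat.card ↥(S ⊓ centralizer ({I} : Set G)) = m at this
    have : m < 3 := by nlinarith
    interval_cases m <;> omega
  rcases h.ty with ⟨k, hE⟩ | ⟨r, q, h3, h4, hO⟩ | ⟨r, q, hJ⟩
  · have h4 : 4 ≤ k := by
      by_contra e
      have : k = 3 := by have := hE.three_le; omega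
      exact h8 (by rw [hE.cardS, this]; norm_num)
    have hY : YE a b S t I := ⟨hC, fun s hs h1 g hg e => hE.cent s hs h1 ▸ ⟨hg, memC e⟩, by
      rw [hE.cardS]
      exact (by norm_num : 16 = 2 ^ 4).le.trans (Nat.pow_le_pow_right two_pos h4)⟩
    rcases Nat.even_or_odd (Nat.card Ω) with he | ho
    · have e1 := (tt_top h.h2).card_stab trivial trivial h.ne
      rw [top_inf_eq, top_inf_eq, Set.ncard_univ] at e1
      have e2 := relIndex_mul_card_inf (stab2 G a b) (stabilizer G a)
      rw [inf_eq_left.2 (inf_le_left : stab2 G a b ≤ stabilizer G a)] at e2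
      have e3 : ((stab2 G a b).relIndex (stabilizer G a) : ℤ) = Nat.card Ω - 1 :=
        mul_right_cancel₀ (show (Nat.card (stab2 G a b) : ℤ) ≠ 0 by exact_mod_cast Nat.card_pos.ne')
          (by rw [← e1]; exact_mod_cast e2)
      obtain ⟨O, h1, h2, h3, h5, h6⟩ := socE h.sab hE h4 (A := stabilizer G a) inf_le_left (by
        obtain ⟨m, hm⟩ := he
        rw [Nat.odd_iff]; omega)
      exact hY.even (by rw [hE.card, hE.cardS]) h1 h2 (fun g hg => h3 g hg) h5
        fun u hu => h6 u hu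
    · exact hY.odd ho
  · obtain ⟨s, x, μ, β, q', hY⟩ := hC.exists_YO h.sab h4 h3 hO
    rcases Nat.even_or_odd (Nat.card Ω) with he | ho
    · exact hY.even he
    · by_cases hF : ∀ c ∈ fixedBy Ω t, s • c = c
      · exact hY.odd1 h.hn ho hF
      · push Not at hF
        exact hY.odd2 ho hF
  · exact h8 hJ.cardS

end CfsgLib.TPS
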